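import Groth.Agent.AgPol.K302.Loc
import Groth.Agent.AgPol.K817.GeomClosed

/-!
# Relative very ampleness from the geometric fibres

`π : X ⟶ S` proper flat, `L` invertible on `X` with `H^1(X_s, L_s) = 0`, very ample on the geometric fibres; then `L` is
very ample relatively to `π` over the members of an affine covering of `S`.
-/

set_option autoImplicit false
universe u

open AlgebraicGeometry CategoryTheory CategoryTheory.Limits TopologicalSpace

namespace K245.VaGeom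

open Groth.Agent.Grpsch.PicGrp Groth.Agent.Fdesc.LocGen Groth.Agent.Dix.ProjProper K390.PnSec K652.QPRf
  K652.QPNodes K652.QPChart K302.Loc

variable {S X : Scheme.{u}}

/-- Very ample on the geometric fibres. -/
def GeomVA (π : X ⟶ S) (L : X.Modules) : Prop :=
  ∀ (Ω : Type u) [Field Ω] [IsAlgClosed Ω] (t : Spec (CommRingCat.of Ω) ⟶ S),
    RelAmple.IsRelVeryAmplePn (pullback.snd π t) ((Scheme.Modules.pullback (pullback.fst π t)).obj L)

/-- Very ampleness in terms of any base change square. -/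
theorem exists_of_isPullback {Y T : Scheme.{u}} {π : X ⟶ S} {t : T ⟶ S} {f : Y ⟶ X} {q : Y ⟶ T}
    (sq : IsPullback f q π t) (L : X.Modules)
    (h : RelAmple.IsRelVeryAmplePn (pullback.snd π t) ((Scheme.Modules.pullback (pullback.fst π t)).obj L)) :
    ∃ (n : ℕ) (r : Y ⟶ CohB1.ProjSpace n Z.{u}) (s : Fin (n + 1) → Γ((Scheme.Modules.pullback f).obj L, ⊤)),
      GivenBy r ((Scheme.Modules.pullback f).obj L) s ∧ IsImmersion (liftP r q) := by
  obtain ⟨n, r, s, hr, him⟩ := (isRelVeryAmplePn_iff _ _).1 h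
  have h1 := (hr.comp sq.isoPullback.hom).of_iso ((Scheme.Modules.pullbackComp sq.isoPullback.hom
    (pullback.fst π t)).app L)
  have key : ∀ f' : Y ⟶ X, sq.isoPullback.hom ≫ pullback.fst π t = f' →
      ∃ s : Fin (n + 1) → Γ((Scheme.Modules.pullback f').obj L, ⊤),
        GivenBy (sq.isoPullback.hom ≫ r) ((Scheme.Modules.pullback f').obj L) s := by
    rintro _ rfl
    exact ⟨_, h1⟩
  obtain ⟨s', hs'⟩ := key f sq.isoPullback_hom_fst
  refine ⟨n, _, s', hs', ?_⟩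
  have h2 : liftP (sq.isoPullback.hom ≫ r) q = sq.isoPullback.hom ≫ liftP r (pullback.snd π t) := by
    refine hom_ext_over ?_ ?_
    · rw [liftP_toZ, Category.assoc, liftP_toZ]
    · rw [liftP_toBase, Category.assoc, liftP_toBase, sq.isoPullback_hom_snd]
  rw [h2]
  infer_instance

section frame

variable {π : X ⟶ S} {L : X.Modules} (hL : PicF.IsInvertible L) (hva : GeomVA π L) {U : S.Opens}
  {k : ℕ} {e : Fin k → Γ(L, π ⁻¹ᵁ U)} (he : Frame π L U e)

include hva he in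
theorem geom {Ω : Type u} [Field Ω] [IsAlgClosed Ω] {Y : Scheme.{u}} {f : Y ⟶ X} {q : Y ⟶ Spec (CommRingCat.of Ω)}
    {t : Spec (CommRingCat.of Ω) ⟶ S} (sq : IsPullback f q π t) (ht : ⊤ ≤ t ⁻¹ᵁ U) (hf : ⊤ ≤ f ⁻¹ᵁ (π ⁻¹ᵁ U)) :
    ∃ (n : ℕ) (r : Y ⟶ CohB1.ProjSpace n Z.{u}) (s : Fin (n + 1) → Γ((Scheme.Modules.pullback f).obj L, ⊤))
      (b : Fin (n + 1) → Fin k → Γ(Spec (CommRingCat.of Ω), ⊤)),
      GivenBy r ((Scheme.Modules.pullback f).obj L) s ∧ IsImmersion (liftP r q) ∧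
        ∀ j, s j = ∑ l, (q.appTop (b j l)) • ps f (e l) hf := by
  obtain ⟨n, r, s, hr, him⟩ := exists_of_isPullback sq L (hva Ω t)
  choose b hb _ using fun j => he f q t sq ht hf (s j)
  exact ⟨n, r, s, b, hr, him, hb⟩

include hL hva he in
theorem geom_gen {Ω : Type u} [Field Ω] [IsAlgClosed Ω] {Y : Scheme.{u}} {f : Y ⟶ X}
    {q : Y ⟶ Spec (CommRingCat.of Ω)}
    {t : Spec (CommRingCat.of Ω) ⟶ S} (sq : IsPullback f q π t) (ht : ⊤ ≤ t ⁻¹ᵁ U) (hf : ⊤ ≤ f ⁻¹ᵁ (π ⁻¹ᵁ U)) :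
    ⨆ l, CohB1.genLocus _ (homOf (ps f (e l) hf)) = ⊤ := by
  obtain ⟨n, r, s, b, hr, him, hb⟩ := geom hva he sq ht hf
  rw [eq_top_iff, ← hr.iSup_genLocus]
  refine iSup_le fun j => ?_
  rw [hb j]
  exact K302.CutBC.genLocus_sum_le (isInvertible_pullback f hL) _ _

include hL hva he in
/-- The sections of a frame generate. -/
theorem gen : ⨆ l, CohB1.genLocus _ (homOf (ps (π ⁻¹ᵁ U).ι (e l) (le_preimage_ι _))) = ⊤ := by
  rw [eq_top_iff]
  intro y _
  let x : X := (π ⁻¹ᵁ U).ι y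
  have hxU : x ∈ π ⁻¹ᵁ U := by
    have := (π ⁻¹ᵁ U).range_ι
    rw [← SetLike.mem_coe, ← this]
    exact ⟨y, rfl⟩
  let Ω := AlgebraicClosure (X.residueField x)
  let v : Spec (CommRingCat.of Ω) ⟶ X :=
    Spec.map (CommRingCat.ofHom (algebraMap (X.residueField x) Ω)) ≫ X.fromSpecResidueField x
  have hvx : ∀ z, v z = x := by
    intro z
    change (X.fromSpecResidueField x) _ = x
    exact X.fromSpecResidueField_apply x _
  have ht : ⊤ ≤ (v ≫ π) ⁻¹ᵁ U := fun z _ => by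
    change π (v z) ∈ U
    rw [hvx]
    exact hxU
  have hf : ⊤ ≤ (pullback.fst π (v ≫ π)) ⁻¹ᵁ (π ⁻¹ᵁ U) := by
    intro z _
    have h2 := ht (show pullback.snd π (v ≫ π) z ∈ (⊤ : (Spec (CommRingCat.of Ω)).Opens) from trivial)
    change π (pullback.fst π (v ≫ π) z) ∈ U
    rw [← Scheme.Hom.comp_apply, pullback.condition]
    exact h2
  have h1 := geom_gen hL hva he (IsPullback.of_hasPullback π (v ≫ π)) ht hf
  obtain ⟨a, ha⟩ := exists_lift (pullback.fst π (v ≫ π)) hf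
  let w : Spec (CommRingCat.of Ω) ⟶ pullback π (v ≫ π) := pullback.lift v (𝟙 _) (by simp)
  have hw : w ≫ pullback.fst π (v ≫ π) = v := pullback.lift_fst _ _ _
  obtain ⟨z⟩ : Nonempty (Spec (CommRingCat.of Ω)) := inferInstance
  have h2 : w z ∈ ⨆ l, CohB1.genLocus _ (homOf (ps (pullback.fst π (v ≫ π)) (e l) hf)) := by
    rw [h1]
    trivial
  obtain ⟨l, hl⟩ := Opens.mem_iSup.1 h2
  refine Opens.mem_iSup.2 ⟨l, ?_⟩
  have h3 : a (w z) = y := by
    apply (π ⁻¹ᵁ U).ι.isOpenEmbedding.injective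
    change ((π ⁻¹ᵁ U).ι) (a (w z)) = x
    rw [← Scheme.Hom.comp_apply, ha, ← Scheme.Hom.comp_apply, hw, hvx]
  rw [← h3]
  have h4 := genLocus_pullTop a (isInvertible_pullback (π ⁻¹ᵁ U).ι hL) (ps (π ⁻¹ᵁ U).ι (e l) (le_preimage_ι _))
  have h5 : w z ∈ a ⁻¹ᵁ (CohB1.genLocus _ (homOf (ps (π ⁻¹ᵁ U).ι (e l) (le_preimage_ι _)))) := by
    rw [← h4]
    have key : ∀ (f : pullback π (v ≫ π) ⟶ X) (_ : a ≫ (π ⁻¹ᵁ U).ι = f) (hf' : ⊤ ≤ f ⁻¹ᵁ (π ⁻¹ᵁ U)),
        w z ∈ CohB1.genLocus _ (homOf (ps f (e l) hf')) →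
        w z ∈ CohB1.genLocus _ (homOf (pullTop a (ps (π ⁻¹ᵁ U).ι (e l) (le_preimage_ι _)))) := by
      rintro _ rfl hf' h6
      rw [← ps_comp (π ⁻¹ᵁ U).ι (le_preimage_ι _) a (e l) hf'] at h6
      have h7 := genLocus_app ((Scheme.Modules.pullbackComp a (π ⁻¹ᵁ U).ι).app L)
        (pullTop a (ps (π ⁻¹ᵁ U).ι (e l) (le_preimage_ι _)))
      exact h7.le h6
    exact key _ ha hf hl
  exact h5

include hL hva he in
/-- The closed immersion given by a frame. -/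
theorem isRelVeryAmplePn [IsProper π] [Surjective π] {s : S} (hs : s ∈ U) :
    RelAmple.IsRelVeryAmplePn (π ∣_ U) (L.restrict (π ⁻¹ᵁ U).ι) := by
  have hgen := gen hL hva he
  -- the size
  have hk : k ≠ 0 := by
    rintro rfl
    obtain ⟨y, hy⟩ := Surjective.surj (f := π) s
    have h2 : ∀ z : ((π ⁻¹ᵁ U : X.Opens) : Scheme.{u}), False := by
      intro z
      have h3 : z ∈ (⊤ : (π ⁻¹ᵁ U : Scheme.{u}).Opens) := trivial
      rw [← hgen, iSup_of_empty] at h3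
      exact h3
    exact h2 ⟨y, show π y ∈ U by rw [hy]; exact hs⟩
  obtain ⟨m, rfl⟩ := Nat.exists_eq_succ_of_ne_zero hk
  obtain ⟨r, hr⟩ := exists_givenBy' (fun l => ps (π ⁻¹ᵁ U).ι (e l) (le_preimage_ι _)) hgen
  have hc : IsClosedImmersion (liftP r (π ∣_ U)) := by
    refine K817.GeomClosed.isClosedImmersion (liftP r (π ∣_ U)) (π ∣_ U) (CohB1.ProjSpaceOver.toBase m U)
      (liftP_toBase _ _) fun Ω _ _ t X' Y' f' p q b sq1 sq2 => ?_
    have hsq : IsPullback (π ⁻¹ᵁ U).ι (π ∣_ U) π U.ι := (isPullback_morphismRestrict π U).flip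
    have sq3 : IsPullback p (f' ≫ b) (π ∣_ U) t := by
      have h1 := sq1.flip.paste_vert sq2
      rwa [liftP_toBase] at h1
    have sq4 := sq3.paste_horiz hsq
    have ht : ⊤ ≤ (t ≫ U.ι) ⁻¹ᵁ U := fun x _ =>
      le_preimage_ι U (show t x ∈ (⊤ : (U : Scheme.{u}).Opens) from trivial)
    have hf : ⊤ ≤ (p ≫ (π ⁻¹ᵁ U).ι) ⁻¹ᵁ (π ⁻¹ᵁ U) := fun x _ =>
      le_preimage_ι (π ⁻¹ᵁ U) (show p x ∈ (⊤ : (π ⁻¹ᵁ U : Scheme.{u}).Opens) from trivial)
    obtain ⟨n₀, r₀, s₀, b₀, hr₀, him₀, hb₀⟩ := geom hva he sq4 ht hf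
    have hr' : GivenBy (p ≫ r) ((Scheme.Modules.pullback (p ≫ (π ⁻¹ᵁ U).ι)).obj L)
        (fun l => ps (p ≫ (π ⁻¹ᵁ U).ι) (e l) hf) := by
      have h1 := (hr.comp p).of_iso ((Scheme.Modules.pullbackComp p (π ⁻¹ᵁ U).ι).app L)
      have h2 : (fun l => ((Scheme.Modules.pullbackComp p (π ⁻¹ᵁ U).ι).app L).hom.app ⊤
          (pullTop p (ps (π ⁻¹ᵁ U).ι (e l) (le_preimage_ι _)))) = fun l => ps (p ≫ (π ⁻¹ᵁ U).ι) (e l) hf := by
        funext l
        exact ps_comp (π ⁻¹ᵁ U).ι (le_preimage_ι _) p (e l) hf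
      rwa [h2] at h1
    have him : IsImmersion (liftP (p ≫ r) (f' ≫ b)) := isImmersion_liftP_of_span (f' ≫ b) hr' hr₀ b₀ hb₀ him₀
    have hprop : IsProper (f' ≫ b) := MorphismProperty.of_isPullback (P := @IsProper) sq3 inferInstance
    have h3 : IsProper (liftP (p ≫ r) (f' ≫ b) ≫ CohB1.ProjSpaceOver.toBase m _) := by
      rw [liftP_toBase]
      exact hprop
    have h4 : IsProper (liftP (p ≫ r) (f' ≫ b)) := IsProper.of_comp _ (CohB1.ProjSpaceOver.toBase m _)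
    have h5 : IsClosedImmersion (liftP (p ≫ r) (f' ≫ b)) :=
      IsClosedImmersion.of_isPreimmersion _ (Scheme.Hom.isClosedMap _).isClosed_range
    have h6 : f' ≫ (sq2.isoIsPullback _ _ (isPullback_mapBase m t)).hom = liftP (p ≫ r) (f' ≫ b) := by
      refine hom_ext_over ?_ ?_
      · rw [liftP_toZ, ← mapBase_toZ m t, Category.assoc, IsPullback.isoIsPullback_hom_fst_assoc, sq1.w_assoc,
          liftP_toZ]
      · rw [liftP_toBase, Category.assoc, IsPullback.isoIsPullback_hom_snd]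
    have h7 : f' = liftP (p ≫ r) (f' ≫ b) ≫ (sq2.isoIsPullback _ _ (isPullback_mapBase m t)).inv := by
      rw [← h6, Category.assoc, Iso.hom_inv_id, Category.comp_id]
    rw [h7]
    infer_instance
  refine (isRelVeryAmplePn_iff _ _).2 ?_
  refine ⟨m, r, _, hr.of_iso ((Scheme.Modules.restrictFunctorIsoPullback (π ⁻¹ᵁ U).ι).app L).symm, ?_⟩
  infer_instance

end frame

/-- **Relative very ampleness, locally on the base, from the geometric fibres.** -/
theorem main (π : X ⟶ S) [IsProper π] [LocallyOfFinitePresentation π] [Flat π] [Surjective π] (L : X.Modules)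
    (hL : PicF.IsInvertible L) (h1 : ∀ s : S, Subsingleton (CohIII.fiberH π L s 1)) (hva : GeomVA π L) (s : S) :
    ∃ V : S.Opens, s ∈ V ∧ IsAffineOpen V ∧ RelAmple.IsRelVeryAmplePn (π ∣_ V) (L.restrict (π ⁻¹ᵁ V).ι) := by
  have hLq : Coh.IsQCoh L := Groth.Agent.Ega2.QCohLocal.isQCoh_of_isInvertible hL
  have hLfp : CohB1.IsFP L := Groth.Agent.Ega3B.ChiFib.isFP_of_isInvertible hL
  have hLfl : FlatMod.IsFlatOver π L := Groth.Agent.Ega3B.ChiFib.isFlatOver_of_isInvertible π hL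
  obtain ⟨U, k, e, hsU, hU, he⟩ := K652.QPFrame.exists_frame π L hLq hLfp hLfl s (h1 s)
  exact ⟨U, hsU, hU, isRelVeryAmplePn hL hva he hsU⟩

end K245.VaGeom
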