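import Groth.Agent.AgPol.K533.Amp
import Groth.Agent.AbVar.K512.PhiSurj
import Groth.Agent.AgPol.K652.QPMain
import Groth.Agent.AgPol.K245.VaGeom

/-!
# The square of the class of a polarisation is very ample on the geometric fibres

`(M ⊗ [-1]^* M)^2 = (t_y^* M)^4` for `M` ample on an abelian variety over an algebraically closed field.
-/

set_option autoImplicit false
universe u

open CategoryTheory Limits MonoidalCategory CartesianMonoidalCategory AlgebraicGeometry
open scoped MonObj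

namespace K245.FourPow

open Groth.Agent Groth.Agent.Grpsch.PicGrp Groth.Agent.Grpsch.Cube K512.Phi

section field

variable {k : Type u} [Field k] [IsAlgClosed k] {A : Over (Spec (CommRingCat.of k))} [GrpObj A]
  [IsProper A.hom] [GeometricallyIntegral A.hom]

/-- `[-1]^* m ⊗ m⁻¹` is translation invariant. -/
theorem invariant (m : Pic A.left) (x : 𝟙_ (Over (Spec (CommRingCat.of k))) ⟶ A) :
    pl (tr x) (pl (𝟙 A)⁻¹ m * m⁻¹) = pl (𝟙 A)⁻¹ m * m⁻¹ := by
  have h1 : K521.Lam.lam (pl (𝟙 A)⁻¹ m * m⁻¹) (𝟙 A) (toUnit A ≫ x) = 1 := by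
    rw [K521.Lam.lam_class_mul, K521.Lam.lam_class_inv, K521.Lam.lam_pl_inv, mul_inv_cancel]
  rw [K521.Lam.lam, Groth.Agent.Sga7.H260.Square.pl_const, inv_one, mul_one, pl_id, mul_inv_eq_one] at h1
  exact h1

/-- `(M ⊗ [-1]^* M)^2 = M'^4` with `M'` a translate of `M`. -/
theorem exists_four {M : A.left.Modules} (hM : CohB1.IsAmple M) :
    ∃ (M' : A.left.Modules) (hM' : CohB1.IsAmple M'),
      K521.Lam.lam (mk M hM.1) (𝟙 A) (𝟙 A) ^ 2 = mk M' hM'.1 ^ 4 := by
  have h2 : CohB1.IsAmple (CohB1.tensorPow M 2) := Groth.Agent.Divis.NormAmple.isAmple_tensorPow hM (by norm_num)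
  have h2' : mk (CohB1.tensorPow M 2) h2.1 = mk M hM.1 ^ 2 := mk_tensorPow hM.1 2
  obtain ⟨y, hy⟩ := K512.PhiSurj.exists_eq_of_isAmple (CohB1.tensorPow M 2) h2
    (pl (𝟙 A)⁻¹ (mk M hM.1) * (mk M hM.1)⁻¹) (invariant _)
  rw [h2', map_pow] at hy
  have hi : IsIso (tr y).left := by
    have e1 : tr y ≫ tr y⁻¹ = 𝟙 A := by rw [tr_comp_tr, mul_inv_cancel, tr_one]
    have e2 : tr y⁻¹ ≫ tr y = 𝟙 A := by rw [tr_comp_tr, inv_mul_cancel, tr_one]
    exact ⟨⟨(tr y⁻¹).left, congrArg CommaMorphism.left e1, congrArg CommaMorphism.left e2⟩⟩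
  refine ⟨(Scheme.Modules.pullback (tr y).left).obj M, Models2.AmplePull.isAmple_pullback _ hM, ?_⟩
  rw [K533.Amp.lam_self, pl_id]
  have e3 : mk ((Scheme.Modules.pullback (tr y).left).obj M) (Models2.AmplePull.isAmple_pullback _ hM).1 =
      pl (tr y) (mk M hM.1) := (pull_mk _ hM.1).symm
  rw [e3]
  have e4 : mk M hM.1 * pl (𝟙 A)⁻¹ (mk M hM.1) = pl (tr y) (mk M hM.1) ^ 2 := by
    rw [mul_inv_eq_iff_eq_mul] at hy
    rw [hy, pow_two]
    generalize pl (𝟙 A)⁻¹ (mk M hM.1) = q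
    generalize mk M hM.1 = m
    rw [mul_comm m q, mul_assoc, inv_mul_cancel_left]
  rw [e4, ← pow_mul]

end field

/-- **VA4** the fourth power of an ample module on an abelian variety is very ample. -/
def VA4 : Prop :=
  ∀ (k : Type u) [Field k] [IsAlgClosed k] (A : Over (Spec (CommRingCat.of k))) [GrpObj A] [IsProper A.hom]
    [GeometricallyIntegral A.hom] (M : A.left.Modules), CohB1.IsAmple M →
      RelAmple.IsRelVeryAmplePn A.hom (CohB1.tensorPow M 4)

/-- The square of the class of a polarisation is very ample on the geometric fibres. -/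
theorem geomVA (hVA : VA4.{u}) {S : Scheme.{u}} (A : Over S) [GrpObj A] [IsCommMonObj A] {g d : ℕ}
    (hA : AgPol.IsAbSch A g) {c : Pic A.left} (hP : K117.Ag.IsPolCl A d c) (L : A.left.Modules)
    (hL : PicF.IsInvertible L) (hLc : mk L hL = c ^ 2) : VaGeom.GeomVA A.hom L := by
  intro Ω _ _ t
  obtain ⟨At, _, _, φ, ξ, lam, hD, h1, h2, h3, hpol, hdeg, hc⟩ := hP
  have := hA.smooth
  have := hA.proper
  have := hA.geomConnected
  have hint : GeometricallyIntegral A.hom := K814.AbBasic.geometricallyIntegral A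
  obtain ⟨M, hM, hlam⟩ := hpol.2 Ω t
  have i1 : IsProper (Red.bc t A).hom := inferInstanceAs (IsProper (pullback.snd A.hom t))
  have i2 : GeometricallyIntegral (Red.bc t A).hom := inferInstanceAs (GeometricallyIntegral (pullback.snd A.hom t))
  obtain ⟨M', hM', h4⟩ := exists_four (A := Red.bc t A) hM
  refine K533.RelVA.of_iso (L := CohB1.tensorPow M' 4) ?_ (hVA Ω (Red.bc t A) M' hM')
  refine (mk_eq_iff (Fdesc.LocGen.isInvertible_pullback (pullback.fst A.hom t) hL)
    (Fdesc.LocGen.isInvertible_tensorPow hM'.1 4)).1 ?_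
  rw [← pull_mk _ hL, hLc, map_pow, hc, K533.Amp.cls_fibre hD h1 h2 h3 t lam hM.1 hlam, h4, mk_tensorPow]

/-- **F1 + F2** The square of the class of a polarisation is relatively very ample, locally on the base. -/
theorem va (hVA : VA4.{u}) {S : Scheme.{u}} [IsLocallyNoetherian S] (A : Over S) [GrpObj A] [IsCommMonObj A] {g d : ℕ}
    (hA : AgPol.IsAbSch A g) {c : Pic A.left} (hP : K117.Ag.IsPolCl A d c) (L : A.left.Modules)
    (hL : PicF.IsInvertible L) (hLc : mk L hL = c ^ 2) (s : S) :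
    ∃ V : S.Opens, s ∈ V ∧ IsAffineOpen V ∧ RelAmple.IsRelVeryAmplePn (A.hom ∣_ V) (L.restrict (A.hom ⁻¹ᵁ V).ι) := by
  have := hA.smooth
  have := hA.proper
  have := hA.geomConnected
  exact VaGeom.main A.hom L hL (K652.QPMain.h1Stmt g d A hA c hP 2 (by norm_num) L hL hLc)
    (geomVA hVA A hA hP L hL hLc) s

end K245.FourPow
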