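import Groth.Agent.AgPol.K652.QPAsm3
import Groth.Agent.AgPol.K245.FourPow
import Groth.Agent.AgPol.K691.QNorm2
import Groth.Agent.AbSch.K645.Conc
import Groth.Agent.AgPol.K117.Final
import Groth.Agent.AgPol.K586.GGRel
import Groth.Agent.RedSub.H672.MonoQP
import Groth.Agent.S10962
import Groth.Agent.Variety.K434.ZTwist

/-!
# Ampleness of `det(f_* L^2)⁻¹` on the moduli scheme of polarised abelian schemes with level structure

* `cls_eq` : the class of `L^Δ(λ)` is the class of the core family;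
* `isAmple_pullback_of_quasiFinite` : `h^* E` is ample for `h` quasi-finite separated and `E` ample;
* `main` : clause (2) of S14321, in terms of core families.
-/

set_option autoImplicit false
universe u

open CategoryTheory Limits MonoidalCategory CartesianMonoidalCategory AlgebraicGeometry
open scoped MonObj

namespace K245.AmpleDet

open Groth.Agent Groth.Agent.Grpsch.PicGrp Groth.Agent.Fga.RigGrp K732.PicZero K732.Prim K732.Dual K117.Ag

theorem va4 : FourPow.VA4.{u} := fun _ _ _ _ _ _ _ _ hM => K586.GGRel.isRelVeryAmplePn hM (by norm_num)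

/-- The pull back of an ample module along a quasi-finite separated morphism is ample. -/
theorem isAmple_pullback_of_quasiFinite {X Y : Scheme.{u}} (h : X ⟶ Y) [LocallyOfFiniteType h] [QuasiCompact h]
    [IsSeparated h] [LocallyQuasiFinite h] {E : Y.Modules} (hE : CohB1.IsAmple E) :
    CohB1.IsAmple ((Scheme.Modules.pullback h).obj E) := by
  have h1 := CalgB.AmpleBase.isAmple_pullback_of_isImmersion h.toNormalization
    (RedSub.H672.MonoQP.isAmple_pullback_of_isAffineHom h.fromNormalization hE)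
  have h2 : h.toNormalization ≫ h.fromNormalization = h := Scheme.Hom.toNormalization_fromNormalization h
  have h3 := Ega2.Weight.isAmple_of_iso
    ((Scheme.Modules.pullbackComp h.toNormalization h.fromNormalization).app E) h1
  have key : ∀ f : X ⟶ Y, f = h → CohB1.IsAmple ((Scheme.Modules.pullback f).obj E) →
      CohB1.IsAmple ((Scheme.Modules.pullback h).obj E) := by
    rintro _ rfl h4
    exact h4
  exact key _ h2 h3

section cls

variable {S : Scheme.{u}} {A At : Over S} [GrpObj A] [GrpObj At] [IsProper A.hom]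
  [Smooth A.hom] [GeometricallyConnected A.hom]

/-- The class of `L^Δ(λ)`. -/
theorem cls_eq {φ : AgPol.DualMap A At} (hD : AbDual.IsDualAV Scheme.fppfPrecoverage A At φ)
    {ξ : Pic (PicF.XT A.hom At)} (h1 : ξ ∈ pz A.hom At) (h2 : ξ ∈ rg A At) (h3 : cm φ ξ = 𝟙 At) (lam : A ⟶ At)
    {P : PicF.Cl (PicF.XT A.hom At)} (hP : AbDual.IsPoincareCl A At φ P) {L : A.left.Modules}
    (hL : PicF.IsInvertible L) (h : PicF.cl L = PicF.pullCl (pullback.lift (𝟙 A.left) lam.left
      ((Category.id_comp A.hom).trans (Over.w lam).symm)) P) : mk L hL = ev (𝟙 A) lam ξ := by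
  obtain ⟨p, hp, rfl⟩ := exists_pz hP.1
  have hint : GeometricallyIntegral A.hom := K814.AbBasic.geometricallyIntegral A
  have hp2 : p ∈ rg A At := by
    rw [mem_Rg, ← isTrivialCl_toCl_iff, toCl_pull]
    exact hP.2.2
  have h4 : p = ξ := cm_inj hD (K732.CubeSec.bijective_XTproj A.hom) hp h1 hp2 h2 (hP.2.1.trans h3.symm)
  subst h4
  refine toCl_injective ?_
  rw [toCl_mk, h, ← toCl_pull]
  rfl

end cls

/-- **Clause (2) of S14321**, in terms of core families. -/
theorem main {g d n : ℕ} (hg : 1 ≤ g) (hn : 2 ≤ n) (M : Over SZ.{u}) (z : Core M g) [IsNoetherian M.left]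
    [LocallyOfFiniteType M.hom] [IsSeparated M.hom] (hok : Core.ok g d n M z)
    (huniq : ∀ (Ω : Type u) [Field Ω] [IsAlgClosed Ω] (t : Spec (CommRingCat.of Ω) ⟶ SZ.{u}) (a b : Over.mk t ⟶ M),
      Core.r _ (z.pull a) (z.pull b) → a = b) (L : z.X.left.Modules) (hL : PicF.IsInvertible L)
    (hLc : mk L hL = z.c) (D : M.left.Modules)
    (hD : ExtPow.IsExtPow (4 ^ g * d) ((Coh.push z.X.hom).obj (CohB1.tensorPow L 2)) D) (D' : M.left.Modules)
    (hDD : ClSub.IsInverseOf D D') : CohB1.IsAmple D' := by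
  have hab := hok.ab
  have hcomm := hok.comm
  have hL2 : PicF.IsInvertible (CohB1.tensorPow L 2) := Fdesc.LocGen.isInvertible_tensorPow hL 2
  have hL2c : mk (CohB1.tensorPow L 2) hL2 = z.c ^ 2 := by rw [mk_tensorPow hL, hLc]
  have hE : FlatMod.IsFinLocFreeOfRank (4 ^ g * d) ((Coh.push z.X.hom).obj (CohB1.tensorPow L 2)) :=
    (K515.RankFam.isFinLocFreeOfRank_pol K117.Final.stmt14161
      (fun S _ A _ g hA _ L hL hr i hi => (K645.Conc.isZero_Rpush hA hL hr).1 i hi) z.X hab hok.pol 2 (by norm_num)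
      (CohB1.tensorPow L 2) hL2 1 (by rw [hL2c, map_one, mul_one])).2
  obtain ⟨hDi, hDi'⟩ := K434.ZTwist.isInvertible_of_inverse hDD
  obtain ⟨W, p, G, _, _, ρ, R, gm, hfin, het, hquot, hlqf, hcls⟩ := K652.QPAsm3.data hg hn M z hok huniq 2
    (by norm_num) (CohB1.tensorPow L 2) hL2 hL2c (FourPow.va va4 z.X hab hok.pol _ hL2 hL2c)
    (K652.QPMain.h1Stmt g d z.X hab z.c hok.pol 2 (by norm_num) _ hL2 hL2c) hE hD hDi
  refine K691.QNorm2.isAmple_of_pull hquot hDi' ?_
  -- `gm` is quasi-finite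
  have hZ : IsIso (Groth.Agent.Dix.ProjProper.toZ R SZ.{u}) := by
    have h0 : IsIso (specULiftZIsTerminal.from SZ.{u}) :=
      ⟨𝟙 _, specULiftZIsTerminal.hom_ext _ _, specULiftZIsTerminal.hom_ext _ _⟩
    exact (MorphismProperty.isomorphisms Scheme.{u}).of_isPullback
      (Groth.Agent.Dix.ProjProper.isPullback_toZ R SZ.{u}).flip h0
  have hgm : LocallyQuasiFinite gm := by
    rw [← K390.PnSec.liftP_toZ gm (p.left ≫ M.hom)]
    infer_instance
  have e1 : gm ≫ CohB1.ProjSpace.toSpec R (ULift.{u} ℤ) = p.left ≫ M.hom := specULiftZIsTerminal.hom_ext _ _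
  have i1 : QuasiCompact M.hom := inferInstance
  have i2 : LocallyOfFiniteType (gm ≫ CohB1.ProjSpace.toSpec R (ULift.{u} ℤ)) := by
    rw [e1]
    infer_instance
  have i3 : QuasiCompact (gm ≫ CohB1.ProjSpace.toSpec R (ULift.{u} ℤ)) := by
    rw [e1]
    infer_instance
  have i4 : IsSeparated (gm ≫ CohB1.ProjSpace.toSpec R (ULift.{u} ℤ)) := by
    rw [e1]
    infer_instance
  have i5 : LocallyOfFiniteType gm := locallyOfFiniteType_of_comp gm (CohB1.ProjSpace.toSpec R (ULift.{u} ℤ))
  have i6 : QuasiCompact gm := QuasiCompact.of_comp gm (CohB1.ProjSpace.toSpec R (ULift.{u} ℤ))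
  have i7 : IsSeparated gm := IsSeparated.of_comp gm (CohB1.ProjSpace.toSpec R (ULift.{u} ℤ))
  have h1 : CohB1.IsAmple ((Scheme.Modules.pullback gm).obj (K390.PnSec.O1 R (ULift.{u} ℤ))) :=
    isAmple_pullback_of_quasiFinite gm (Groth.Agent.S10962.isAmple_of_pos _ R one_pos)
  have h2 : pull gm (o1 R) = mk _ (Fdesc.LocGen.isInvertible_pullback p.left hDi') := by
    have h3 : mk D hDi * mk D' hDi' = 1 := by
      rw [mk_mul_mk, mk_eq_one_iff]
      exact hDD
    have h4 := congrArg (pull p.left) h3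
    rw [map_mul, map_one, mul_comm] at h4
    rw [← pull_mk _ hDi']
    exact (eq_inv_of_mul_eq_one_left hcls).trans (eq_inv_of_mul_eq_one_left h4).symm
  rw [o1, pull_mk _ (K390.PnSec.isInvertible_O1 R (ULift.{u} ℤ))] at h2
  obtain ⟨e⟩ := (mk_eq_iff _ _).1 h2
  exact Ega2.Weight.isAmple_of_iso e h1

end K245.AmpleDet
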