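import Groth.Agent.An.K824.ElemAff
import Groth.Agent.CurvSt.K899.DivAmple
import Groth.Agent.CalgB.ProjImm2
import Groth.Agent.PicF.K247.SmoothGI
import Groth.Agent.PicF.K247.RelDim
import Groth.Agent.Flat2G.ProperDim
import Groth.Agent.Ega2.Weight

/-!
# A smooth proper relative curve with a section is projective locally on the base
-/

set_option autoImplicit false
universe u

open CategoryTheory CategoryTheory.Limits AlgebraicGeometry

namespace K245.LocProj

open Groth.Agent

variable {C S : Scheme.{u}}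

/-- On an affine base: an ample module near every point. -/
theorem exists_ample [IsAffine S] (f : C ⟶ S) [IsProper f] [Smooth f] [GeometricallyConnected f]
    (hdim : ∀ s : S, topologicalKrullDim ↥(f.fiber s) = 1) (σ : S ⟶ C) (hσ : σ ≫ f = 𝟙 S) (s : S) :
    ∃ V : S.Opens, s ∈ V ∧ ∀ W : S.Opens, W ≤ V → IsAffineOpen W →
      ∃ L : (f ⁻¹ᵁ W).toScheme.Modules, CohB1.IsAmple L := by
  have hrel : SmoothOfRelativeDimension 1 f := K247.RelDim.curve f hdim
  have hi1 : IsImmersion σ := by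
    have : IsImmersion (σ ≫ f) := by rw [hσ]; infer_instance
    exact IsImmersion.of_comp σ f
  have hcl : IsClosedImmersion σ := by
    have : IsClosedImmersion (σ ≫ f) := by rw [hσ]; infer_instance
    exact IsClosedImmersion.of_comp σ f
  have hfin : IsFinite (σ ≫ f) := by rw [hσ]; infer_instance
  have het : Etale (σ ≫ f) := by rw [hσ]; infer_instance
  have hD : BlowUp.IsEffCartierIdeal σ.ker := K824.ElemAff.isEffCartierIdeal_ker f σ
  have hsupp : (σ.ker.support : Set C) = Set.range σ := by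
    rw [Scheme.Hom.support_ker, IsClosed.closure_eq]
    exact σ.isClosedEmbedding.isClosed_range
  have hgi : GeometricallyIntegral f := K247.SmoothGI.geometricallyIntegral f
  have hint : IsIntegral (f.fiber s) :=
    GeometricallyIntegral.geometrically_isIntegral (f := f) _ _ _ (IsPullback.of_hasPullback f (S.fromSpecResidueField s))
  have hz : ∃ z : f.fiber s, f.fiberι s z = σ s := by
    have h1 : σ s ∈ Set.range (f.fiberι s) := by
      rw [Scheme.Hom.range_fiberι]
      change f (σ s) = s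
      rw [← Scheme.Hom.comp_apply, hσ]
      rfl
    exact h1
  obtain ⟨V, hV, h⟩ := K899.DivAmple.exists_nhd f hD s (hdim s).le (by
    intro Z hZ _
    have hZu : Z = Set.univ := by
      have := hZ.1.1
      refine Set.eq_univ_of_univ_subset ?_
      exact hZ.2 (y := Set.univ) (IrreducibleSpace.isIrreducible_univ _) (Set.subset_univ _)
    rw [hZu]
    refine ⟨?_, ?_⟩
    · by_contra hc
      push Not at hc
      have h1 : ∀ y : f.fiber s, f.fiberι s y = σ s := by
        intro y
        have h2 : f.fiberι s y ∈ (σ.ker.support : Set C) := hc y (Set.mem_univ _)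
        rw [hsupp] at h2
        obtain ⟨t, ht⟩ := h2
        have h3 : f (f.fiberι s y) = s := by
          have : f.fiberι s y ∈ f ⁻¹' {s} := by rw [← Scheme.Hom.range_fiberι]; exact ⟨y, rfl⟩
          exact this
        have h4 : t = s := by
          rw [← h3, ← ht, ← Scheme.Hom.comp_apply, hσ]
          rfl
        rw [← ht, h4]
      have h2 : Subsingleton (f.fiber s) :=
        ⟨fun a b => (f.fiberι s).isEmbedding.injective ((h1 a).trans (h1 b).symm)⟩
      have h3 : topologicalKrullDim (f.fiber s) ≤ 0 := by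
        rw [topologicalKrullDim]
        have : Subsingleton (TopologicalSpace.IrreducibleCloseds (f.fiber s)) := by
          refine ⟨fun a b => ?_⟩
          apply TopologicalSpace.IrreducibleCloseds.ext
          obtain ⟨x, hx⟩ := a.isIrreducible.1
          obtain ⟨y, hy⟩ := b.isIrreducible.1
          ext w
          exact ⟨fun _ => Subsingleton.elim y w ▸ hy, fun _ => Subsingleton.elim x w ▸ hx⟩
        exact Order.krullDim_nonpos_of_subsingleton
      rw [hdim s] at h3
      exact absurd h3 (by decide)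
    · obtain ⟨z, hz⟩ := hz
      refine ⟨z, Set.mem_univ _, ?_⟩
      change f.fiberι s z ∈ (σ.ker.support : Set C)
      rw [hsupp, hz]
      exact ⟨s, rfl⟩)
  exact ⟨V, hV, fun W hW hWa => (h W hW hWa).2⟩

theorem dim_snd (f : C ⟶ S) [IsProper f] {S' : Scheme.{u}} (b : S' ⟶ S)
    (hdim : ∀ s : S, topologicalKrullDim ↥(f.fiber s) = 1) (s : S') :
    topologicalKrullDim ↥((pullback.snd f b).fiber s) = 1 :=
  (Flat2G.ProperDim.topologicalKrullDim_fiber_baseChange f (pullback.snd f b) (pullback.fst f b) b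
    (IsPullback.of_hasPullback f b) s).trans (hdim _)

/-- The induced section of a base change. -/
noncomputable def secb (f : C ⟶ S) (σ : S ⟶ C) (hσ : σ ≫ f = 𝟙 S) {S' : Scheme.{u}} (b : S' ⟶ S) :
    S' ⟶ pullback f b :=
  pullback.lift (b ≫ σ) (𝟙 _) (by rw [Category.assoc, hσ, Category.comp_id, Category.id_comp])

@[reassoc (attr := simp)]
theorem secb_fst (f : C ⟶ S) (σ : S ⟶ C) (hσ : σ ≫ f = 𝟙 S) {S' : Scheme.{u}} (b : S' ⟶ S) :
    secb f σ hσ b ≫ pullback.fst f b = b ≫ σ := pullback.lift_fst _ _ _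

@[reassoc (attr := simp)]
theorem secb_snd (f : C ⟶ S) (σ : S ⟶ C) (hσ : σ ≫ f = 𝟙 S) {S' : Scheme.{u}} (b : S' ⟶ S) :
    secb f σ hσ b ≫ pullback.snd f b = 𝟙 S' := pullback.lift_snd _ _ _

/-- Near every point of the base the curve is a closed subscheme of a projective space. -/
theorem exists_chart (f : C ⟶ S) [IsProper f] [Smooth f] [GeometricallyConnected f]
    (hdim : ∀ s : S, topologicalKrullDim ↥(f.fiber s) = 1) (σ : S ⟶ C) (hσ : σ ≫ f = 𝟙 S) (s : S) :
    ∃ (S' : Scheme.{u}) (b : S' ⟶ S) (_ : IsOpenImmersion b) (_ : s ∈ Set.range b) (_ : IsAffine S') (n : ℕ)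
      (i : pullback f b ⟶ CohB1.ProjSpaceOver n S'), IsClosedImmersion i ∧
      i ≫ CohB1.ProjSpaceOver.toBase n S' = pullback.snd f b := by
  obtain ⟨V₀, hV₀, hs, -⟩ := exists_isAffineOpen_mem_and_subset (X := S) (x := s) (U := ⊤) trivial
  have hA : IsAffine V₀.toScheme := hV₀
  let f₀ := pullback.snd f V₀.ι
  have hs₀ : secb f σ hσ V₀.ι ≫ f₀ = 𝟙 _ := secb_snd f σ hσ V₀.ι
  let s₀ : V₀.toScheme := ⟨s, hs⟩
  obtain ⟨V, hV, h⟩ := exists_ample f₀ (dim_snd f V₀.ι hdim) (secb f σ hσ V₀.ι) hs₀ s₀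
  obtain ⟨W, hW, hsW, hWV⟩ := exists_isAffineOpen_mem_and_subset (X := V₀.toScheme) (x := s₀) (U := V) hV
  obtain ⟨L, hL⟩ := h W hWV hW
  have hWa : IsAffine W.toScheme := hW
  have hf1 : IsProper (f₀ ∣_ W) := inferInstance
  obtain ⟨n, i, hi, hif⟩ := (CalgB.ProjImm.closedImmersion_iff
    (S := W.toScheme) ⟨Coh.structureModule _, Ega2.Weight.isAmple_structureModule _⟩ (f₀ ∣_ W)).2 ⟨hf1, L, hL⟩
  · have hpb : IsPullback (pullback.fst f (W.ι ≫ V₀.ι)) (pullback.snd f (W.ι ≫ V₀.ι)) f (W.ι ≫ V₀.ι) :=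
      IsPullback.of_hasPullback _ _
    have hpb2 : IsPullback ((f₀ ⁻¹ᵁ W).ι ≫ pullback.fst f V₀.ι) (f₀ ∣_ W) f (W.ι ≫ V₀.ι) :=
      (isPullback_morphismRestrict f₀ W).flip.paste_horiz (IsPullback.of_hasPullback f V₀.ι)
    let e : pullback f (W.ι ≫ V₀.ι) ≅ (f₀ ⁻¹ᵁ W).toScheme := hpb.isoIsPullback _ _ hpb2
    refine ⟨W.toScheme, W.ι ≫ V₀.ι, inferInstance, ⟨⟨s₀, hsW⟩, rfl⟩, hWa, n, e.hom ≫ i, inferInstance, ?_⟩
    rw [Category.assoc, hif]
    exact hpb.isoIsPullback_hom_snd _ _ hpb2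

end K245.LocProj
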