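import Groth.Agent.PicF.K247.AbelDeg
import Groth.Agent.AbSch.K449.CurveVan
import Groth.Agent.AgPol.K245.LocProj
import Groth.Agent.Etcore.FibreDeg
import Groth.Agent.CurvesC.CurveCoh

/-!
# Degrees on the fibres of a relative curve

* `degAt_mul`, `degAt_inv`, `degAt_gcl`: additivity, and the degree of `O(-Γ_x)`;
* `chiAt_eq`: Riemann–Roch, `chiAt_one`;
* `vanish`, `h0_eq`: vanishing of cohomology and dimension of sections in large degree.
-/

set_option autoImplicit false
universe u
open CategoryTheory CategoryTheory.Limits AlgebraicGeometry Opposite TopologicalSpace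

namespace K245.CurveDeg

open Groth.Agent Groth.Agent.Grpsch Groth.Agent.Grpsch.PicGrp Groth.Agent.Fga.RigGrp Groth.Agent.Fga.JacSurj
  Groth.Agent.Picfga.ChiDef K247.DegFn K247.FibDeg Groth.Agent.Fga.JacSum K247.BC K247.GclBC K247.AbelDeg
  Groth.Agent.Etcore.DegZero K245.LocProj

variable {C S : Scheme.{u}} (f : C ⟶ S)

/-- The inclusion of the fibre at `t`. -/
noncomputable abbrev fι (T : Over S) (t : T.left) : (FGA.fibreAt f T t).left ⟶ PicF.XT f T :=
  pullback.fst (PicF.XTproj f T) (T.left.fromSpecResidueField t)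

theorem degAt_eq_dg [QuasiCompact f] [QuasiSeparated f] (T : Over S) (t : T.left) (c : Pic (PicF.XT f T)) :
    degAt f T t c = dg (T.left.residueField t) (FGA.fibreAt f T t).left (pull (fι f T t) c) := by
  obtain ⟨L, hL, rfl⟩ := exists_mk c
  rw [degAt_mk f T t hL, pull_mk, dg_mk]
  rfl

variable [IsProper f] [Smooth f] [GeometricallyConnected f] (hdim : ∀ s : S, topologicalKrullDim ↥(f.fiber s) = 1)

theorem isProper_fibreAt (T : Over S) (t : T.left) : IsProper (FGA.fibreAt f T t).hom :=
  inferInstanceAs (IsProper (pullback.snd (PicF.XTproj f T) (T.left.fromSpecResidueField t)))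

theorem isIntegral_fibreAt (T : Over S) (t : T.left) : IsIntegral (FGA.fibreAt f T t).left := by
  have := K247.SmoothGI.geometricallyIntegral (PicF.XTproj f T)
  exact GeometricallyIntegral.geometrically_isIntegral (f := PicF.XTproj f T) (K := T.left.residueField t) _ _ _
    (IsPullback.of_hasPullback _ _)

include hdim in
theorem dim_fibreAt (T : Over S) (t : T.left) : topologicalKrullDim (FGA.fibreAt f T t).left = 1 :=
  dim_fiber f hdim T t

include hdim in
theorem degAt_mul (T : Over S) (t : T.left) (a b : Pic (PicF.XT f T)) :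
    degAt f T t (a * b) = degAt f T t a + degAt f T t b := by
  have := isIntegral_fibreAt f T t
  have : IsProper ((FGA.fibreAt f T t).left ↘ Spec (CommRingCat.of (T.left.residueField t))) :=
    isProper_fibreAt f T t
  rw [degAt_eq_dg, degAt_eq_dg, degAt_eq_dg, map_mul]
  exact dg_mul _ _ (dim_fibreAt f hdim T t) _ _

include hdim in
theorem degAt_inv (T : Over S) (t : T.left) (a : Pic (PicF.XT f T)) :
    degAt f T t a⁻¹ = - degAt f T t a := by
  have := degAt_mul f hdim T t a a⁻¹
  rw [mul_inv_cancel, degAt_one] at this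
  linarith

include hdim in
theorem degAt_pow (T : Over S) (t : T.left) (a : Pic (PicF.XT f T)) (n : ℕ) :
    degAt f T t (a ^ n) = n * degAt f T t a := by
  induction n with
  | zero => rw [pow_zero, degAt_one]; simp
  | succ n ih => rw [pow_succ, degAt_mul f hdim, ih]; push_cast; ring

include hdim in
/-- The degree of `O(-Γ_x)` over a field valued point. -/
theorem chiK_gcl [SmoothOfRelativeDimension 1 f] {K : Type u} [Field K] (b : Spec (CommRingCat.of K) ⟶ S)
    (x : Pt f (dn b (Over.mk (𝟙 (Spec (CommRingCat.of K)))))) :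
    chiK f (𝟙 _ ≫ b) (gcl f x) = chiK f (𝟙 _ ≫ b) 1 - 1 := by
  let f' := pullback.snd f b
  have hdim' : ∀ s, topologicalKrullDim ↥(f'.fiber s) = 1 := fun s =>
    (Flat2G.ProperDim.topologicalKrullDim_fiber_baseChange f f' (pullback.fst f b) b
      (IsPullback.of_hasPullback f b) s).trans (hdim _)
  have hrel : SmoothOfRelativeDimension 1 f' := K247.RelDim.curve f' hdim'
  have hd : topologicalKrullDim ↑(pullback f b) = 1 := by
    rw [Flat2G.ProperDim.topologicalKrullDim_field_point f (Field.toIsField K) (pullback.snd f b)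
      (pullback.fst f b) b (IsPullback.of_hasPullback f b) (IsLocalRing.closedPoint K)]
    exact hdim _
  have hgi := K247.SmoothGI.geometricallyIntegral f
  have hX : Curve.IsSmoothProperCurve K (pullback f b) f' :=
    ⟨inferInstance, inferInstance,
      GeometricallyIntegral.geometrically_isIntegral (f := f) _ _ _ (IsPullback.of_hasPullback f b), hd⟩
  have h1 := Fga.JacRR.rrStep f' hX K (𝟙 _) (upPt f b x) (gcl f' (upPt f b x))
  rw [mul_inv_cancel] at h1
  have h2 := chiK_cmp f b (𝟙 _) (gcl f x)
  have h3 := chiK_cmp f b (𝟙 (Spec (CommRingCat.of K))) 1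
  have h4 : pull (cmp f b (Over.mk (𝟙 (Spec (CommRingCat.of K))))) (gcl f x) = gcl f' (upPt f b x) := by
    have h5 := pull_cmp_gcl f b (upPt f b x)
    rw [dnPt_upPt] at h5
    exact h5
  rw [h4] at h2
  rw [map_one] at h3
  rw [← h2, ← h3]
  linarith

include hdim in
theorem degAt_gcl [SmoothOfRelativeDimension 1 f] {T : Over S} (x : Pt f T) (t : T.left) :
    degAt f T t (gcl f x) = -1 := by
  let b : Spec (CommRingCat.of (T.left.residueField t)) ⟶ S := fsr T.left t ≫ T.hom
  let T' : Over S := dn b (Over.mk (𝟙 _))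
  let g : T' ⟶ T := Over.homMk (fsr T.left t) (by
    change fsr T.left t ≫ T.hom = 𝟙 _ ≫ b
    rw [Category.id_comp])
  let τ : T'.left := (IsLocalRing.closedPoint (T.left.residueField t) : Spec (CommRingCat.of (T.left.residueField t)))
  have h1 := degAt_pull f g τ (gcl f x)
  have h2 : g.left τ = t := fsr_apply T.left t _
  rw [h2, pull_gcl] at h1
  rw [← h1, degAt]
  have h3 := chiK_eq_chiAt f (𝟙 _ ≫ b) (gcl f (x.comp g)) τ
  have h4 := chiK_eq_chiAt f (𝟙 _ ≫ b) 1 τ
  have h5 := chiK_gcl f hdim b (x.comp g)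
  change chiAt f (Over.mk (𝟙 _ ≫ b)) τ (gcl f (x.comp g)) - chiAt f (Over.mk (𝟙 _ ≫ b)) τ 1 = -1
  rw [← h3, ← h4, h5]
  ring

end K245.CurveDeg
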