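import Groth.Agent.AgPol.K245.JacSec
import Groth.Agent.AgPol.K245.CurveDeg
import Groth.Agent.AbSch.K449.FibVan2
import Groth.Agent.Dcoh.DerSch

/-!
# Vanishing of cohomology and Riemann–Roch on the fibres of a family of curves

* `euler_eq`, `vanish`, `h0_eq`: fibres, classes of degree `> 2g - 2`;
* `push_main`: the direct image is finite locally free and the higher direct images vanish.
-/

set_option autoImplicit false
universe u
open CategoryTheory CategoryTheory.Limits AlgebraicGeometry Opposite TopologicalSpace

namespace K245.CurveVan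

open Groth.Agent Groth.Agent.Grpsch Groth.Agent.Grpsch.PicGrp Groth.Agent.Fga.RigGrp Groth.Agent.Fga.JacSurj
  Groth.Agent.Picfga.ChiDef K247.DegFn K247.FibDeg Groth.Agent.Fga.JacSum K245.CurveDeg

variable {C S : Scheme.{u}} {f : C ⟶ S} {g : ℕ} (hf : ModFun.IsCurveOfGenus g f)

include hf

attribute [local instance] Groth.Agent.Dcoh.DerSch.hasInjectiveResolutions

theorem isCurve_fibreAt (T : Over S) (t : T.left) : ModFun.IsCurveOfGenus g (FGA.fibreAt f T t).hom :=
  K245.JacSec.isCurve_of_isPullback
    (K245.JacSec.isCurve_of_isPullback hf (IsPullback.of_hasPullback f T.hom))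
    (IsPullback.of_hasPullback (PicF.XTproj f T) (T.left.fromSpecResidueField t))

theorem euler_one (T : Over S) (t : T.left) :
    FGA.eulerCharLE (T.left.residueField t) (FGA.fibreAt f T t).left
          (Coh.structureModule (FGA.fibreAt f T t).left) 1 = 1 - g := by
  have h0 := K995.CurveBasic.h0_eq_one (k := T.left.residueField t) (isCurve_fibreAt hf T t)
  have h1 := K995.CurveBasic.h1_eq (k := T.left.residueField t) (isCurve_fibreAt hf T t)
  rw [FGA.eulerCharLE, Finset.sum_range_succ, Finset.sum_range_succ, Finset.sum_range_zero]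
  erw [h0, h1]
  ring

theorem euler_eq (T : Over S) (t : T.left) {L : (PicF.XT f T).Modules} (hL : PicF.IsInvertible L) :
    FGA.eulerCharLE (T.left.residueField t) (FGA.fibreAt f T t).left (FGA.restrFibre f T t L) 1 =
      degAt f T t (mk L hL) + 1 - g := by
  have : IsProper f := hf.2.1
  rw [degAt_mk, euler_one hf]
  ring

theorem vanish (T : Over S) {L : (PicF.XT f T).Modules} (hL : PicF.IsInvertible L) (t : T.left)
    (h : 2 * (g : ℤ) - 2 < degAt f T t (mk L hL)) (p : ℕ) (hp : 1 ≤ p) :
    Subsingleton (CohIII.fiberH (PicF.XTproj f T) L t p) := by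
  have hc := isCurve_fibreAt hf T t
  have h1 : Smooth ((FGA.fibreAt f T t).left ↘ Spec (CommRingCat.of (T.left.residueField t))) := hc.1
  have h2 : IsProper ((FGA.fibreAt f T t).left ↘ Spec (CommRingCat.of (T.left.residueField t))) := hc.2.1
  have h3 : GeometricallyIrreducible ((FGA.fibreAt f T t).left ↘ Spec (CommRingCat.of (T.left.residueField t))) := hc.2.2.1
  have h4 : GeometricallyConnected ((FGA.fibreAt f T t).left ↘ Spec (CommRingCat.of (T.left.residueField t))) :=
    K995.CurveBasic.geometricallyConnected _
  have hd := K995.CurveBasic.dim_eq_one (k := T.left.residueField t) hc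
  have hL' : PicF.IsInvertible (FGA.restrFibre f T t L) := Fdesc.LocGen.isInvertible_pullback _ hL
  rcases Nat.lt_or_ge p 2 with hp2 | hp2
  · obtain rfl : p = 1 := by omega
    have he := euler_eq hf T t hL
    have h0 := K995.CurveBasic.h1_eq (k := T.left.residueField t) hc
    rw [FGA.eulerCharLE, Finset.sum_range_succ, Finset.sum_range_succ, Finset.sum_range_zero] at he
    refine K449.CurveVan.subsingleton_H1 (T.left.residueField t) (FGA.fibreAt f T t).left hd (FGA.restrFibre f T t L) hL' ?_
    erw [h0]
    linarith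
  · exact CurvesC.CurveCoh.subsingleton_H_ge_two (T.left.residueField t) (FGA.fibreAt f T t).left hd
      (FGA.restrFibre f T t L) p (by omega)

theorem h0_eq (T : Over S) {L : (PicF.XT f T).Modules} (hL : PicF.IsInvertible L) (t : T.left)
    (h : 2 * (g : ℤ) - 2 < degAt f T t (mk L hL)) :
    (CohIII.fiberRank (PicF.XTproj f T) L 0 t : ℤ) = degAt f T t (mk L hL) + 1 - g := by
  have h1 := vanish hf T hL t h 1 le_rfl
  have he := euler_eq hf T t hL
  rw [FGA.eulerCharLE, Finset.sum_range_succ, Finset.sum_range_succ, Finset.sum_range_zero] at he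
  have h2 : Module.finrank (T.left.residueField t) (Coh.HH (FGA.fibreAt f T t).left (FGA.restrFibre f T t L) 1) = 0 := by
    have : Subsingleton (Coh.HH (FGA.fibreAt f T t).left (FGA.restrFibre f T t L) 1) := h1
    exact Module.finrank_zero_of_subsingleton
  rw [h2] at he
  rw [← he]
  simp
  rfl

/-- **Push-forward of a class of large degree.** -/
theorem push_main (T : Over S) {L : (PicF.XT f T).Modules} (hL : PicF.IsInvertible L)
    (h : ∀ t : T.left, 2 * (g : ℤ) - 2 < degAt f T t (mk L hL)) :
    (∀ p : ℕ, 1 ≤ p → IsZero ((Coh.Rpush (PicF.XTproj f T) p).obj L)) ∧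
      FlatMod.IsFinLocFree ((Coh.push (PicF.XTproj f T)).obj L) := by
  have h1 : Smooth (PicF.XTproj f T) :=
    MorphismProperty.of_isPullback (P := @Smooth) (IsPullback.of_hasPullback f T.hom) hf.1
  have h2 : IsProper (PicF.XTproj f T) :=
    MorphismProperty.of_isPullback (P := @IsProper) (IsPullback.of_hasPullback f T.hom) hf.2.1
  exact K449.FibVan2.main (PicF.XTproj f T) L hL fun t p hp => vanish hf T hL t (h t) p hp

end K245.CurveVan
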