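import Groth.Agent.AgPol.K245.NodeMum
import Groth.Agent.AgPol.K245.CurveVan
import Groth.Agent.Krr.H469.BCAcyc
import Groth.Agent.Fga.RelCart
import Groth.Agent.S2390
import Groth.Agent.ArSurf.K482.DetPic
import Groth.Agent.AbSch.K451.DetPic
import Groth.Agent.VarietyB.RestrSeq
import Groth.Agent.Fga.TwistCoh
import Groth.Agent.FreeSec.K79.Main
import Groth.Agent.Variety.K433.PushAcyc

/-!
# The determinant of the direct image of a class of large degree on a family of curves

* `nonempty_iso`: base change of the direct image of an acyclic flat module (any base change);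
* `exists_ses`, `push_ses`;
* `dt hf hn T c h`: the determinant of the direct image of a class `c` of fibre degree `n ≥ 2g` on `C_T`;
* `dt_pull`, `dt_twist`, `dt_sec`: base change, twist by a class of the base, adding a section.
-/

set_option autoImplicit false
universe u
open CategoryTheory CategoryTheory.Limits AlgebraicGeometry Opposite TopologicalSpace

namespace K245.PushDet

open Groth.Agent Groth.Agent.Grpsch.PicGrp Groth.Agent.PerfB.BCTot Groth.Agent.PerfB.BCTot.Tot Groth.Agent.PerfB.BCMod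

section general

variable {X S X' S' : Scheme.{u}} {f : X ⟶ S} {g : S' ⟶ S} {g' : X' ⟶ X} {f' : X' ⟶ S'}

/-- **Base change of the direct image** of an acyclic flat module. -/
theorem nonempty_iso (sq : IsPullback g' f' f g) [QuasiCompact f] [IsSeparated f] (M : X.Modules)
    (hM : Coh.IsQCoh M) (hfl : FlatMod.IsFlatOver f M)
    (hvan : ∀ W : S.Opens, IsAffineOpen W → ∀ p : ℕ, 1 ≤ p →
      Subsingleton (Coh.HH (f ⁻¹ᵁ W).toScheme (M.restrict (f ⁻¹ᵁ W).ι) p)) :
    Nonempty ((Scheme.Modules.pullback g).obj ((Scheme.Modules.pushforward f).obj M) ≅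
      (Scheme.Modules.pushforward f').obj ((Scheme.Modules.pullback g').obj M)) := by
  have H := Krr.H469.BCAcyc.bc_acyclic sq M hM hfl hvan
  let m : (⟨X, M⟩ : Tot modPull.{u}) ⟶ ⟨S, (Scheme.Modules.pushforward f).obj M⟩ :=
    cocartLift f (Scheme.Modules.pullbackPushforwardAdjunction f) M
  let m' : (⟨X', (Scheme.Modules.pullback g').obj M⟩ : Tot modPull.{u}) ⟶
      ⟨S', (Scheme.Modules.pushforward f').obj ((Scheme.Modules.pullback g').obj M)⟩ :=
    cocartLift f' (Scheme.Modules.pullbackPushforwardAdjunction f') _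
  have hm : IsCocart m := isCocart_cocartLift _ _ _
  have hm' : IsCocart m' := isCocart_cocartLift _ _ _
  obtain ⟨s, hs, hs'⟩ := hm'.desc (cartLift (P := modPull.{u}) ⟨X, M⟩ g' ≫ m) g sq.w.symm
  have := H _ _ m m' s rfl rfl hs hm hm' hs'
  obtain ⟨b, φ⟩ := s
  subst hs
  exact ⟨@asIso _ _ _ _ φ this⟩

theorem van_of_isZero (f : X ⟶ S) [IsProper f] [HasInjectiveResolutions X.Modules] {L : X.Modules}
    (hL : PicF.IsInvertible L) (h : ∀ p : ℕ, 1 ≤ p → IsZero ((Coh.Rpush f p).obj L)) (W : S.Opens)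
    (hW : IsAffineOpen W) (p : ℕ) (hp : 1 ≤ p) :
    Subsingleton (Coh.HH (f ⁻¹ᵁ W).toScheme (L.restrict (f ⁻¹ᵁ W).ι) p) := by
  obtain ⟨e⟩ := Ega3B.RpushAff.exists_linearEquiv f L (Ega2.QCohLocal.isQCoh_of_isInvertible hL) hW p
  have h1 : Subsingleton Γ((Coh.Rpush f p).obj L, W) := by
    refine subsingleton_of_forall_eq 0 fun x => ?_
    have h2 : (𝟙 ((Coh.Rpush f p).obj L) : _ ⟶ _) = 0 := (h p hp).eq_of_src _ _
    have h3 : (Scheme.Modules.Hom.app (𝟙 ((Coh.Rpush f p).obj L)) W) x = x := rfl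
    rw [← h3, h2]
    rfl
  exact e.symm.toEquiv.subsingleton

theorem isIso_unitToPush {Z Z' : Scheme.{u}} (e : Z ⟶ Z') [IsIso e] :
    IsIso (C := Z'.Modules) (ClSub.unitToPush e) := by
  rw [Scheme.Modules.Hom.isIso_iff_isIso_app]
  intro U
  rw [ConcreteCategory.isIso_iff_bijective]
  exact ConcreteCategory.bijective_of_isIso (e.app U)

/-- `O_X/J ≅ i_* O_Z` for a closed immersion `i` with ideal `J`. -/
theorem nonempty_quotMod_iso {Z : Scheme.{u}} (i : Z ⟶ X) [IsClosedImmersion i] :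
    Nonempty (ClSub.quotMod i.ker ≅ (Scheme.Modules.pushforward i).obj (Coh.structureModule Z)) := by
  have h : i.ker.subschemeι.ker = i.ker := Scheme.IdealSheafData.ker_subschemeι _
  let e : Z ⟶ i.ker.subscheme := IsClosedImmersion.lift i.ker.subschemeι i h.le
  have he : IsIso e := IsClosedImmersion.isIso_lift _ _ h
  have hfac : e ≫ i.ker.subschemeι = i := IsClosedImmersion.lift_fac _ _ _
  have := isIso_unitToPush e
  exact ⟨(Scheme.Modules.pushforward i.ker.subschemeι).mapIso (asIso (ClSub.unitToPush e)) ≪≫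
    (Scheme.Modules.pushforwardComp e i.ker.subschemeι).app _ ≪≫ (Scheme.Modules.pushforwardCongr hfac).app _⟩

/-- `0 → E ⊗ I → E → i_* i^* E → 0`. -/
theorem exists_ses {Z : Scheme.{u}} (i : Z ⟶ X) [IsClosedImmersion i] {E : X.Modules} (hE : PicF.IsInvertible E) :
    ∃ C : ShortComplex X.Modules, C.ShortExact ∧ Nonempty (C.X₁ ≅ CohB1.tensorMod E (ClSub.idealMod i.ker)) ∧
      Nonempty (C.X₂ ≅ E) ∧
      Nonempty (C.X₃ ≅ (Scheme.Modules.pushforward i).obj ((Scheme.Modules.pullback i).obj E)) := by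
  have h1 := Fga.TwistCoh.shortExact_tensorBi hE _ (VarietyB.RestrSeq.idealSeq_shortExact i.ker)
  obtain ⟨q⟩ := nonempty_quotMod_iso i
  refine ⟨_, h1, ⟨Iso.refl _⟩, ⟨Ega2.Tens.runit E⟩, ⟨?_⟩⟩
  exact (DCoh.tensorBi.obj E).mapIso q ≪≫
    VarietyB.ProjForm.projIsoUnit i
      (VarietyB.TensCoh.HasBases.of_isFinLocFreeOfRank (Ega2.QCohLocal.isFinLocFreeOfRank_one_iff.mpr hE))

theorem push_ses (π : X ⟶ S) [HasInjectiveResolutions X.Modules] {C : ShortComplex X.Modules} (hC : C.ShortExact)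
    (h1 : IsZero ((Coh.Rpush π 1).obj C.X₁)) : (C.map (Scheme.Modules.pushforward π)).ShortExact := by
  have hlim : PreservesLimitsOfSize.{0, 0} (Scheme.Modules.pushforward π) :=
    (Scheme.Modules.pullbackPushforwardAdjunction π).rightAdjoint_preservesLimits
  have hfl : PreservesFiniteLimits (Scheme.Modules.pushforward π) := inferInstance
  have hmono : Mono C.f := hC.mono_f
  have hmono' : Mono ((Scheme.Modules.pushforward π).map C.f) := inferInstance
  have hei : EnoughInjectives X.Modules := Dcoh.DerSch.enoughInjectives X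
  exact { exact := hC.exact.map_of_mono_of_preservesKernel _ hmono inferInstance
          mono_f := hmono'
          epi_g := K79.FreeSec.epi_of_isZero (Scheme.Modules.pushforward π) hC h1 }

/-- The two determinants agree. -/
theorem det_eq {r : ℕ} {E : X.Modules} (hE : FlatMod.IsFinLocFreeOfRank r E) :
    K451.DetPic.det r E hE = K482.DetPic.det hE := by
  rw [K451.DetPic.det]
  exact K482.DetPic.mk_eq_det hE (Groth.Agent.Dual.H366.ExtQCoh.isExtPow_ext (K451.DetPic.isQCoh_of_rank hE) r) _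

end general

section curve

open Groth.Agent.Fga.RigGrp Groth.Agent.Fga.JacSum K247.DegFn K245.CurveVan K245.CurveDeg

attribute [local instance] Groth.Agent.Dcoh.DerSch.hasInjectiveResolutions

variable {C S : Scheme.{u}} {f : C ⟶ S} {g : ℕ} (hf : ModFun.IsCurveOfGenus g f)

/-- Classes of fibre degree `n`. -/
def HasDeg (f : C ⟶ S) (T : Over S) (n : ℤ) (c : Pic (PicF.XT f T)) : Prop := ∀ t : T.left, degAt f T t c = n

theorem HasDeg.pull [QuasiCompact f] [QuasiSeparated f] {T T' : Over S} (h : T' ⟶ T) {n : ℤ}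
    {c : Pic (PicF.XT f T)} (hc : HasDeg f T n c) : HasDeg f T' n (Groth.Agent.Grpsch.PicGrp.pull (PicF.XTmap f h) c) := fun t => by
  rw [degAt_pull, hc]

theorem isProper_XTproj (hf : ModFun.IsCurveOfGenus g f) (T : Over S) : IsProper (PicF.XTproj f T) :=
  MorphismProperty.of_isPullback (P := @IsProper) (IsPullback.of_hasPullback f T.hom) hf.2.1

theorem smooth_XTproj (hf : ModFun.IsCurveOfGenus g f) (T : Over S) : Smooth (PicF.XTproj f T) :=
  MorphismProperty.of_isPullback (P := @Smooth) (IsPullback.of_hasPullback f T.hom) hf.1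

/-- The section of `C_T ⟶ T` attached to a point. -/
noncomputable def sec {T : Over S} (z : Pt f T) : T.left ⟶ PicF.XT f T :=
  pullback.lift z.1 (𝟙 T.left) (by simpa using z.2)

theorem sec_proj {T : Over S} (z : Pt f T) : sec z ≫ PicF.XTproj f T = 𝟙 T.left := pullback.lift_snd _ _ _

theorem sec_fst {T : Over S} (z : Pt f T) : sec z ≫ pullback.fst f T.hom = z.1 := pullback.lift_fst _ _ _

theorem isClosedImmersion_sec [IsSeparated f] {T : Over S} (z : Pt f T) : IsClosedImmersion (sec z) := by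
  have h1 : IsSeparated (PicF.XTproj f T) :=
    MorphismProperty.of_isPullback (P := @IsSeparated) (IsPullback.of_hasPullback f T.hom) inferInstance
  have h2 : IsClosedImmersion (sec z ≫ PicF.XTproj f T) := by rw [sec_proj]; infer_instance
  exact IsClosedImmersion.of_comp (sec z) (PicF.XTproj f T)

variable {n : ℕ} (hn : 2 * g ≤ n)

include hf hn

theorem van (T : Over S) {L : (PicF.XT f T).Modules} (hL : PicF.IsInvertible L)
    (h : HasDeg f T n (mk L hL)) (p : ℕ) (hp : 1 ≤ p) : IsZero ((Coh.Rpush (PicF.XTproj f T) p).obj L) :=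
  (push_main hf T hL fun t => by rw [h t]; omega).1 p hp

theorem rank_push (T : Over S) [IsLocallyNoetherian T.left] {L : (PicF.XT f T).Modules} (hL : PicF.IsInvertible L)
    (h : HasDeg f T n (mk L hL)) :
    FlatMod.IsFinLocFreeOfRank (n + 1 - g) ((Scheme.Modules.pushforward (PicF.XTproj f T)).obj L) := by
  have h1 := smooth_XTproj hf T
  have h2 := isProper_XTproj hf T
  have h3 : IsLocallyNoetherian (PicF.XT f T) := LocallyOfFiniteType.isLocallyNoetherian (PicF.XTproj f T)
  intro t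
  obtain ⟨U, htU, e⟩ := (S2390.result (PicF.XTproj f T) L (VarietyA.CurveFin.isCoh_of_isInvertible hL)
    (Ega3B.ChiFib.isFlatOver_of_isInvertible _ hL) (fun i hi => van hf hn T hL h i hi)).2 t
  have h4 := h0_eq hf T hL t (by rw [h t]; omega)
  rw [h t] at h4
  have h5 : CohIII.fiberRank (PicF.XTproj f T) L 0 t = n + 1 - g := by omega
  rw [h5] at e
  exact ⟨U, htU, e⟩

/-- **The determinant of the direct image** of a class of degree `n ≥ 2g`. -/
noncomputable def dt (T : Over S) [IsLocallyNoetherian T.left] (c : Pic (PicF.XT f T)) (h : HasDeg f T n c) :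
    Pic T.left :=
  K482.DetPic.det (rank_push hf hn T (exists_mk c).choose_spec.choose
    (by rw [← (exists_mk c).choose_spec.choose_spec]; exact h))

theorem dt_mk (T : Over S) [IsLocallyNoetherian T.left] {L : (PicF.XT f T).Modules} (hL : PicF.IsInvertible L)
    (h : HasDeg f T n (mk L hL)) : dt hf hn T (mk L hL) h = K482.DetPic.det (rank_push hf hn T hL h) := by
  obtain ⟨e⟩ := (mk_eq_iff _ _).1 (exists_mk (mk L hL)).choose_spec.choose_spec
  exact K482.DetPic.det_congr _ _ ⟨(Scheme.Modules.pushforward (PicF.XTproj f T)).mapIso e.symm⟩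

theorem dt_eq (T : Over S) [IsLocallyNoetherian T.left] {c : Pic (PicF.XT f T)} (h : HasDeg f T n c)
    {L : (PicF.XT f T).Modules} (hL : PicF.IsInvertible L) (e : c = mk L hL) :
    dt hf hn T c h = K482.DetPic.det (rank_push hf hn T hL (e ▸ h)) := by
  subst e
  exact dt_mk hf hn T hL h

/-- Compatibility with base change. -/
theorem dt_pull {T T' : Over S} [IsLocallyNoetherian T.left] [IsLocallyNoetherian T'.left] (h : T' ⟶ T)
    (c : Pic (PicF.XT f T)) (hc : HasDeg f T n c) (hc' : HasDeg f T' n (pull (PicF.XTmap f h) c)) :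
    dt hf hn T' (pull (PicF.XTmap f h) c) hc' = pull h.left (dt hf hn T c hc) := by
  obtain ⟨L, hL, rfl⟩ := exists_mk c
  have h1 := smooth_XTproj hf T
  have h2 := isProper_XTproj hf T
  have key := nonempty_iso (Fga.RelCart.isPullback_XTmap f h) L (Ega2.QCohLocal.isQCoh_of_isInvertible hL)
    (Ega3B.ChiFib.isFlatOver_of_isInvertible _ hL)
    (van_of_isZero (PicF.XTproj f T) hL fun p hp => van hf hn T hL hc p hp)
  have h4 : FlatMod.IsFinLocFreeOfRank (n + 1 - g) ((Scheme.Modules.pullback h.left).obj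
      ((Scheme.Modules.pushforward (PicF.XTproj f T)).obj L)) := by
    obtain ⟨e⟩ := key
    exact Krr.H495.Rank.rank_iso e.symm (rank_push hf hn T' (Fdesc.LocGen.isInvertible_pullback _ hL) hc')
  rw [dt_mk hf hn T hL hc, ← K482.DetPic.det_pull h.left (rank_push hf hn T hL hc) h4]
  refine (dt_mk hf hn T' (Fdesc.LocGen.isInvertible_pullback _ hL) hc').trans ?_
  exact K482.DetPic.det_congr _ _ ⟨key.some.symm⟩

/-- Twisting by a class from the base. -/
theorem dt_twist (T : Over S) [IsLocallyNoetherian T.left] (c : Pic (PicF.XT f T)) (hc : HasDeg f T n c)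
    (N : Pic T.left) (hc' : HasDeg f T n (c * pull (PicF.XTproj f T) N)) :
    dt hf hn T (c * pull (PicF.XTproj f T) N) hc' = dt hf hn T c hc * N ^ (n + 1 - g) := by
  obtain ⟨L, hL, rfl⟩ := exists_mk c
  obtain ⟨M, hM, rfl⟩ := exists_mk N
  have e0 : mk L hL * pull (PicF.XTproj f T) (mk M hM) = mk (CohB1.tensorMod
      ((Scheme.Modules.pullback (PicF.XTproj f T)).obj M) L)
      (Fdesc.LocGen.isInvertible_tensorMod (Fdesc.LocGen.isInvertible_pullback _ hM) hL) := by
    rw [mul_comm]; rfl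
  have hd := rank_push hf hn T hL hc
  have hM1 : FlatMod.IsFinLocFreeOfRank 1 M := Ega2.QCohLocal.isFinLocFreeOfRank_one_iff.mpr hM
  obtain ⟨e⟩ := K433.PushGF.push_tensor (PicF.XTproj f T) L hM
  rw [dt_eq hf hn T hc' _ e0, K482.DetPic.det_congr _ (K451.DetPic.rank_tensor hM1 hd) ⟨e⟩, ← det_eq,
    K451.DetPic.det_tensor hM1 hd, K451.DetPic.det_one hM1 hM, pow_one, det_eq, dt_mk hf hn T hL hc, mul_comm]

/-- **The step**: adding a section. -/
theorem dt_sec [SmoothOfRelativeDimension 1 f] [IsSeparated f] (hn' : 2 * g ≤ n + 1) (T : Over S)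
    [IsLocallyNoetherian T.left] (z : Pt f T)
    (c : Pic (PicF.XT f T)) (hc : HasDeg f T n c) (hc' : HasDeg f T (n + 1 : ℕ) (c * (gcl f z)⁻¹)) :
    dt hf hn' T (c * (gcl f z)⁻¹) hc' = dt hf hn T c hc * pull (sec z) (c * (gcl f z)⁻¹) := by
  obtain ⟨E, hE, e⟩ := exists_mk (c * (gcl f z)⁻¹)
  have hi := isClosedImmersion_sec z
  obtain ⟨K, hK, ⟨e1⟩, ⟨e2⟩, ⟨e3⟩⟩ := exists_ses (sec z) hE
  let I := ClSub.idealMod (HilbD.secGraph f T z.1 z.2)
  have hI : PicF.IsInvertible I := Dix.IdealModCartier.isInvertible_idealMod (isEff_secGraph f z)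
  have hEI : PicF.IsInvertible (CohB1.tensorMod E I) := Fdesc.LocGen.isInvertible_tensorMod hE hI
  have e4 : c = mk (CohB1.tensorMod E I) hEI := by
    have h1 : mk (CohB1.tensorMod E I) hEI = mk E hE * gcl f z := rfl
    rw [h1, ← e, inv_mul_cancel_right]
  have hX1 : PicF.IsInvertible K.X₁ := Ega2.VeryAmpleAmple.isInvertible_of_iso e1.symm hEI
  have e5 : c = mk K.X₁ hX1 := e4.trans (mk_congr e1.symm)
  have hX2 : PicF.IsInvertible K.X₂ := Ega2.VeryAmpleAmple.isInvertible_of_iso e2.symm hE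
  have e6 : c * (gcl f z)⁻¹ = mk K.X₂ hX2 := e.trans (mk_congr e2.symm)
  have hS := push_ses (PicF.XTproj f T) hK (van hf hn T hX1 (e5 ▸ hc) 1 le_rfl)
  have i3 : (Scheme.Modules.pushforward (PicF.XTproj f T)).obj K.X₃ ≅ (Scheme.Modules.pullback (sec z)).obj E :=
    (Scheme.Modules.pushforward (PicF.XTproj f T)).mapIso e3 ≪≫
      (Scheme.Modules.pushforwardComp (sec z) (PicF.XTproj f T)).app _ ≪≫
      (Scheme.Modules.pushforwardCongr (sec_proj z)).app _ ≪≫ (Scheme.Modules.pushforwardId _).app _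
  have hE3 : PicF.IsInvertible ((Scheme.Modules.pullback (sec z)).obj E) := Fdesc.LocGen.isInvertible_pullback _ hE
  have hr3 : FlatMod.IsFinLocFreeOfRank 1 ((Scheme.Modules.pullback (sec z)).obj E) :=
    Ega2.QCohLocal.isFinLocFreeOfRank_one_iff.mpr hE3
  have hr3' := Krr.H495.Rank.rank_iso i3.symm hr3
  have hd := K482.DetPic.det_ses hS (rank_push hf hn T hX1 (e5 ▸ hc)) (rank_push hf hn' T hX2 (e6 ▸ hc')) hr3'
  rw [dt_eq hf hn' T hc' hX2 e6, dt_eq hf hn T hc hX1 e5]
  refine hd.trans (congrArg _ ?_)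
  refine (K482.DetPic.det_congr hr3' hr3 ⟨i3⟩).trans ?_
  rw [K482.DetPic.det_rank_one hr3 hE3, e, pull_mk]

end curve

end K245.PushDet
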