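import Groth.Agent.AgPol.K245.AmpleDet
import Groth.Agent.AgPol.K691.ZBase
import Groth.Agent.AgPol.K438.NEFin

/-!
# Assembly of S14321

`main` : for a fine moduli scheme `M` over `Spec ℤ[1/n]`, `n ≥ 2`, of core families (tested on locally Noetherian schemes)
and of the families of the frozen problem, `M` is quasi-projective, has geometric points and `det(f_* L²)⁻¹` is ample.
-/

set_option autoImplicit false
universe u

open CategoryTheory Limits MonoidalCategory CartesianMonoidalCategory AlgebraicGeometry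
open scoped MonObj

namespace K245.Final

open Groth.Agent Groth.Agent.Grpsch.PicGrp Groth.Agent.Fga.RigGrp K732.PicZero K732.Prim K732.Dual K117.Ag
  K691.ZBase K691.ZCorr

section base

variable {g d n : ℕ} {M : Over (SN.{u} n)} {z : Core M g}

theorem ok_cp' (hz : Core.ok g d n M z) : Core.ok g d n (Over.mk (M.hom ≫ sN n)) (cp (M.hom ≫ sN n) z) :=
  ⟨hz.ab, hz.comm, hz.rig, hz.pol, hz.level⟩

/-- Uniqueness at geometric points. -/
theorem huniq (hz : ModFun.IsUnivFamily (LN (SN.{u} n)) (CoreP (SN.{u} n) g d n) M z) (Ω : Type u) [Field Ω]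
    [IsAlgClosed Ω] (t : Spec (CommRingCat.of Ω) ⟶ SZ.{u}) (a b : Over.mk t ⟶ Over.mk (M.hom ≫ sN n))
    (h : Core.r _ ((cp (M.hom ≫ sN n) z).pull a) ((cp (M.hom ≫ sN n) z).pull b)) : a = b := by
  let t' : Spec (CommRingCat.of Ω) ⟶ SN.{u} n := a.left ≫ M.hom
  let a' : Over.mk t' ⟶ M := Over.homMk a.left rfl
  let b' : Over.mk t' ⟶ M := Over.homMk b.left (hom_eq _ _)
  have hLN : LN (SN.{u} n) (Over.mk t') := by
    change IsLocallyNoetherian (Spec (CommRingCat.of Ω))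
    infer_instance
  have h1 := (hz.2 (Over.mk t') (z.pull b') hLN (K817.Closed.ok_pull b' hz.1)).unique
    (y₁ := a') (y₂ := b') h (K691.LevCore.r_refl _)
  ext1
  exact congrArg (fun q => q.left) h1

theorem quasiProjective (hg : 1 ≤ g) (hn : 2 ≤ n) [LocallyOfFiniteType M.hom] [QuasiCompact M.hom]
    [IsSeparated M.hom] (hz : ModFun.IsUnivFamily (LN (SN.{u} n)) (CoreP (SN.{u} n) g d n) M z) :
    RelProj.IsQuasiProjective M.hom := by
  have i0 : IsLocallyNoetherian M.left := LocallyOfFiniteType.isLocallyNoetherian M.hom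
  have i1 : CompactSpace M.left := QuasiCompact.compactSpace_of_compactSpace M.hom
  have hN : IsNoetherian M.left := {}
  obtain ⟨-, -, L, hL⟩ := K652.QPMain.main hg hn (Over.mk (M.hom ≫ sN n)) (cp (M.hom ≫ sN n) z) hN
    (inferInstanceAs (LocallyOfFiniteType (M.hom ≫ sN n))) (inferInstanceAs (IsSeparated (M.hom ≫ sN n)))
    (ok_cp' hz.1) (fun Ω _ _ t a b h => huniq hz Ω t a b h)
  refine ⟨inferInstance, inferInstance, L, ?_⟩
  rw [Ega2.RelAmp.isRelAmple_iff_isAmple] at hL ⊢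
  exact hL

/-- Geometric points. -/
theorem geomPts (hg : 1 ≤ g) (hd : 1 ≤ d) (Q : ∀ T : Over (SN.{u} n), AgPol.Fam T g → Prop)
    (hQ : ∀ (T : Over (SN.{u} n)) (x : AgPol.Fam T g), Q T x ↔ QF T x) {ξ : AgPol.Fam M g}
    (hu : ModFun.IsUnivFamily ⊤ ((AgPol.Agdn (SN.{u} n) g d n).restrict Q) M ξ) (Ω : Type u) [Field Ω] [IsAlgClosed Ω]
    (t : Spec (CommRingCat.of Ω) ⟶ SN.{u} n) :
    Nonempty (Over.mk t ⟶ M) ∧ ∀ k : Over.mk t ⟶ M, ((AgPol.Agdn (SN.{u} n) g d n).restrict Q).ok _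
      (((AgPol.Agdn (SN.{u} n) g d n).restrict Q).pull k ξ) := by
  constructor
  · have hn : (n : Ω) ≠ 0 := by
      have h := (isUnit_of_hom t).map (Scheme.ΓSpecIso (CommRingCat.of Ω)).hom.hom
      rw [map_natCast] at h
      exact h.ne_zero
    obtain ⟨F, hF, hF'⟩ := K438.NE.exists_fam K438.NE.exDual K438.NE.degSq g d n hg hd Ω t hn
    obtain ⟨k, -, -⟩ := hu.2 (Over.mk t) F trivial ⟨hF, (hQ _ _).2 (K438.NE.fppf_of_isAmpleFam F hF hF')⟩
    exact ⟨k⟩
  · intro k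
    exact ⟨K533.FamCore.pull_ok k ξ hu.1.1, (hQ _ _).2 (qf_pull k hu.1.1 ((hQ _ _).1 hu.1.2))⟩

/-- Clause (2). -/
theorem ampleDet (hg : 1 ≤ g) (hn : 2 ≤ n) [LocallyOfFiniteType M.hom] [QuasiCompact M.hom]
    [IsSeparated M.hom] (hz : ModFun.IsUnivFamily (LN (SN.{u} n)) (CoreP (SN.{u} n) g d n) M z) {ξ : AgPol.Fam M g}
    (hξ : IsCoreOf ξ z) (hok : AgPol.Fam.ok g d n M ξ) :
    letI := ξ.grp
    letI := ξ.grpt
    ∀ (P : PicF.Cl (PicF.XT ξ.X.hom ξ.Xt)), AbDual.IsPoincareCl ξ.X ξ.Xt ξ.φ P →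
      ∀ (L : ξ.X.left.Modules), PicF.IsInvertible L →
        PicF.cl L = PicF.pullCl (pullback.lift (𝟙 ξ.X.left) ξ.lam.left
          ((Category.id_comp ξ.X.hom).trans (Over.w ξ.lam).symm)) P →
        ∀ (D : M.left.Modules), ExtPow.IsExtPow (4 ^ g * d) ((Coh.push ξ.X.hom).obj (CohB1.tensorPow L 2)) D →
          ∀ (D' : M.left.Modules), ClSub.IsInverseOf D D' → CohB1.IsAmple D' := by
  intro P hP L hL hcl D hD D' hDD
  let _ := ξ.grp
  let _ := ξ.grpt
  obtain ⟨x, h1, h2, h3, rfl⟩ := hξ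
  obtain ⟨hA, hc, hct, hdual, hpol, hdeg, hlev⟩ := hok
  have := hA.smooth
  have := hA.proper
  have := hA.geomConnected
  have i0 : IsLocallyNoetherian M.left := LocallyOfFiniteType.isLocallyNoetherian M.hom
  have i1 : CompactSpace M.left := QuasiCompact.compactSpace_of_compactSpace M.hom
  have hN : IsNoetherian M.left := {}
  have i2 : IsNoetherian (Over.mk (M.hom ≫ sN n)).left := hN
  have i3 : LocallyOfFiniteType (Over.mk (M.hom ≫ sN n)).hom := inferInstanceAs (LocallyOfFiniteType (M.hom ≫ sN n))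
  have i4 : IsSeparated (Over.mk (M.hom ≫ sN n)).hom := inferInstanceAs (IsSeparated (M.hom ≫ sN n))
  exact AmpleDet.main hg hn (Over.mk (M.hom ≫ sN n)) (cp (M.hom ≫ sN n) _) (ok_cp' hz.1)
    (fun Ω _ _ t a b h => huniq hz Ω t a b h) L hL (AmpleDet.cls_eq hdual h1 h2 h3 ξ.lam hP hL hcl) D hD D' hDD

end base

/-- **S14321** from a fine moduli scheme of core families. -/
theorem main {g d n : ℕ} (hg : 1 ≤ g) (hd : 1 ≤ d) (hn : 2 ≤ n)
    (Q : ∀ T : Over (SN.{u} n), AgPol.Fam T g → Prop)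
    (hQ : ∀ (T : Over (SN.{u} n)) (x : AgPol.Fam T g), Q T x ↔ QF T x)
    (M : Over (SN.{u} n)) (z : Core M g)
    (hz : ModFun.IsUnivFamily (LN (SN.{u} n)) (CoreP (SN.{u} n) g d n) M z) (hft : LocallyOfFiniteType M.hom)
    (hqc : QuasiCompact M.hom) (hsep : IsSeparated M.hom) (ξ : AgPol.Fam M g) (hξ : IsCoreOf ξ z)
    (hu : ModFun.IsUnivFamily ⊤ ((AgPol.Agdn (SN.{u} n) g d n).restrict Q) M ξ) :
    ModFun.IsUnivFamily ⊤ ((AgPol.Agdn (SN.{u} n) g d n).restrict Q) M ξ ∧ RelProj.IsQuasiProjective M.hom ∧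
      (∀ (Ω : Type u) [Field Ω] [IsAlgClosed Ω] (t : Spec (CommRingCat.of Ω) ⟶ SN.{u} n),
        Nonempty (Over.mk t ⟶ M) ∧ ∀ k : Over.mk t ⟶ M, ((AgPol.Agdn (SN.{u} n) g d n).restrict Q).ok _
          (((AgPol.Agdn (SN.{u} n) g d n).restrict Q).pull k ξ)) ∧
      (letI := ξ.grp
       letI := ξ.grpt
       ∀ (P : PicF.Cl (PicF.XT ξ.X.hom ξ.Xt)), AbDual.IsPoincareCl ξ.X ξ.Xt ξ.φ P →
        ∀ (L : ξ.X.left.Modules), PicF.IsInvertible L →
          PicF.cl L = PicF.pullCl (pullback.lift (𝟙 ξ.X.left) ξ.lam.left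
            ((Category.id_comp ξ.X.hom).trans (Over.w ξ.lam).symm)) P →
          ∀ (D : M.left.Modules), ExtPow.IsExtPow (4 ^ g * d) ((Coh.push ξ.X.hom).obj (CohB1.tensorPow L 2)) D →
            ∀ (D' : M.left.Modules), ClSub.IsInverseOf D D' → CohB1.IsAmple D') :=
  ⟨hu, quasiProjective hg hn hz, fun Ω _ _ t => geomPts hg hd Q hQ hu Ω t, ampleDet hg hn hz hξ hu.1.1⟩

end K245.Final
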