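import Groth.Agent.AgPol.K245.Final
import Groth.Agent.AgPol.K250.FineFam
import Groth.Agent.AgPol.K540.Rig3Laws
import Groth.Agent.S9691

/-!
# S14321 from a fine moduli scheme over `Spec ℤ`

* `of_SZ` : a fine moduli scheme of core families over `Spec ℤ` is one over `Spec ℤ[1/n]`.
* `result_of` : S14321 from `K691.CoarseLoc.Fine g d n` and `K250.AgLim.FineFam.QLoc`.
-/

set_option autoImplicit false
universe u

open CategoryTheory Limits MonoidalCategory CartesianMonoidalCategory AlgebraicGeometry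
open scoped MonObj

namespace K245.FinalZ

open Groth.Agent Groth.Agent.Grpsch.PicGrp Groth.Agent.Fga.RigGrp K732.PicZero K732.Prim K732.Dual K117.Ag
  K691.ZBase K691.ZCorr

/-- Fine moduli schemes of core families over `Spec ℤ` and over `Spec ℤ[1/n]`. -/
theorem of_SZ {g d n : ℕ} (hg : 1 ≤ g) (hn : 1 ≤ n) {M : Over SZ.{u}} {ξ : Core M g}
    (h : ModFun.IsUnivFamily (LN SZ.{u}) (CoreP SZ.{u} g d n) M ξ) (hft : LocallyOfFiniteType M.hom)
    (hqc : QuasiCompact M.hom) (hsep : IsSeparated M.hom) :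
    ∃ (M' : Over (SN.{u} n)) (z : Core M' g), ModFun.IsUnivFamily (LN (SN.{u} n)) (CoreP (SN.{u} n) g d n) M' z ∧
      LocallyOfFiniteType M'.hom ∧ QuasiCompact M'.hom ∧ IsSeparated M'.hom := by
  have hcomm := h.1.comm
  obtain ⟨f⟩ := exists_hom (K691.LevSec.isUnit_of_level hg hn h.1.ab ξ.σ h.1.level)
  have e : f ≫ sN n = M.hom := hom_eqZ _ _
  have i1 : LocallyOfFiniteType (f ≫ sN n) := by rw [e]; exact hft
  have i2 : QuasiCompact (f ≫ sN n) := by rw [e]; exact hqc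
  have i3 : IsSeparated (f ≫ sN n) := by rw [e]; exact hsep
  refine ⟨Over.mk f, cp f ξ, ⟨⟨h.1.ab, h.1.comm, h.1.rig, h.1.pol, h.1.level⟩, fun T x hT hx => ?_⟩,
    locallyOfFiniteType_of_comp f (sN n), QuasiCompact.of_comp f (sN n), IsSeparated.of_comp f (sN n)⟩
  obtain ⟨k, hk, hu⟩ := h.2 (Over.mk (T.hom ≫ sN n)) (cp (T.hom ≫ sN n) x) hT
    ⟨hx.ab, hx.comm, hx.rig, hx.pol, hx.level⟩
  refine ⟨Over.homMk k.left (hom_eq _ _), hk, fun k' hk' => ?_⟩
  have e := hu (Over.homMk k'.left (hom_eqZ _ _)) hk'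
  ext1
  exact congrArg (fun q => q.left) e

/-- **S14321 from the remaining inputs.** -/
theorem result_of {g d n : ℕ} (hg : 1 ≤ g) (hd : 1 ≤ d) (hn : 3 ≤ n) (hF : K691.CoarseLoc.Fine.{u} g d n)
    (hq : K250.AgLim.FineFam.QLoc.{u})
    (Q : ∀ T : Over (SN.{u} n), AgPol.Fam T g → Prop)
    (hQ : ∀ (T : Over (SN.{u} n)) (x : AgPol.Fam T g), Q T x ↔ QF T x) :
    ∃ (M : Over (SN.{u} n)) (ξ : AgPol.Fam M g),
    ModFun.IsUnivFamily ⊤ ((AgPol.Agdn (SN.{u} n) g d n).restrict Q) M ξ ∧ RelProj.IsQuasiProjective M.hom ∧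
      (∀ (Ω : Type u) [Field Ω] [IsAlgClosed Ω] (t : Spec (CommRingCat.of Ω) ⟶ SN.{u} n),
        Nonempty (Over.mk t ⟶ M) ∧ ∀ k : Over.mk t ⟶ M, ((AgPol.Agdn (SN.{u} n) g d n).restrict Q).ok _
          (((AgPol.Agdn (SN.{u} n) g d n).restrict Q).pull k ξ)) ∧
      (letI := ξ.grp
       letI := ξ.grpt
       ∀ (P : PicF.Cl (PicF.XT ξ.X.hom ξ.Xt)), AbDual.IsPoincareCl ξ.X ξ.Xt ξ.φ P →
        ∀ (L : ξ.X.left.Modules), PicF.IsInvertible L →
          PicF.cl L = PicF.pullCl (pullback.lift (𝟙 ξ.X.left) ξ.lam.left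
            ((Category.id_comp ξ.X.hom).trans (Over.w ξ.lam).symm)) P →
          ∀ (D : M.left.Modules), ExtPow.IsExtPow (4 ^ g * d) ((Coh.push ξ.X.hom).obj (CohB1.tensorPow L 2)) D →
            ∀ (D' : M.left.Modules), ClSub.IsInverseOf D D' → CohB1.IsAmple D') := by
  obtain ⟨M, ξ, hU, hqp, -⟩ := hF
  have hsep : IsSeparated M.hom := by
    obtain ⟨-, -, L, hL⟩ := hqp
    exact Groth.Agent.S9691.result M.hom L hL
  obtain ⟨M', z, hz, hft, hqc, hsep'⟩ := of_SZ hg (by omega) hU hqp.1 hqp.2.1 hsep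
  have hN : IsNoetherian (SN.{u} n) := {}
  obtain ⟨x, hx, -, -, hu⟩ := K250.AgLim.FineFam.main hq hg (by omega) (K540.Ag.Rig3.autTriv hn) Q hQ M' z hz
  exact ⟨M', x, Final.main hg hd (by omega) Q hQ M' z hz hft hqc hsep' x hx hu⟩

end K245.FinalZ
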