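import Groth.Agent.AgPol.K245.FinalZ
import Groth.Agent.AgPol.K117.Final
import Groth.Agent.AgPol.K272.FrLocal
import Groth.Agent.AgPol.K540.Fine3Main
import Groth.Agent.AgPol.K691.CoarseFin
import Groth.Agent.AgPol.K691.CoarseMain
import Groth.Agent.AgPol.K817.ClosedFin
import Groth.Agent.AgPol.K969.QLoc

/-!
# Fine moduli schemes of core families for all levels `n ≥ 3`
-/

set_option autoImplicit false
universe u

open CategoryTheory CategoryTheory.Limits AlgebraicGeometry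

namespace K245.FineBig

open K117.Ag K691.CoarseLoc K691.CoarseMain

/-- The fine moduli scheme of families of large level (statement S14158). -/
theorem big {g d n : ℕ} (hg : 1 ≤ g) (hd : 1 ≤ d) (hn : (6 ^ g * d) ^ 2 * Nat.factorial g < n ^ 2) :
    ∃ (M : Over SZ.{u}) (ξ : (AgPol.Agdn SZ.{u} g d n).Fam M),
      ModFun.IsUnivFamily (fun T => IsLocallyNoetherian T.left) (AgPol.Agdn SZ.{u} g d n) M ξ ∧
      RelProj.IsQuasiProjective M.hom ∧
      ∀ (Ω : Type u) [Field Ω] [IsAlgClosed Ω] (t : Spec (CommRingCat.of Ω) ⟶ SZ.{u}),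
        (n : Ω) ≠ 0 → Nonempty (Over.mk t ⟶ M) ∧ ∀ k : Over.mk t ⟶ M,
          (AgPol.Agdn SZ.{u} g d n).ok _ ((AgPol.Agdn SZ.{u} g d n).pull k ξ) :=
  K117.Final.main hg hd hn (fun _ hm => K272.Fr.frLocal_main K817.Closed.h14161 hm) K817.Closed.vaMain

/-- The fine moduli scheme of core families of large level. -/
theorem fineBig {g d : ℕ} (hg : 1 ≤ g) (hd : 1 ≤ d) (N : ℕ) (hN : (6 ^ g * d) ^ 2 * Nat.factorial g < N ^ 2) :
    Fine.{u} g d N := by
  obtain ⟨M, ξ, hU, hqp, hne⟩ := big.{u} hg hd hN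
  have hM : LN SZ.{u} M := by
    have := hqp.1
    exact LocallyOfFiniteType.isLocallyNoetherian M.hom
  obtain ⟨z, hz⟩ := (corr SZ.{u} (K533.FamCore.main g d N) (K691.CoarseFin.preLaws _ g d N)).fine hM hU
  exact ⟨M, z, hz, hqp, fun Ω _ _ t ht => (hne Ω t ht).1⟩

/-- The fine moduli scheme of core families of level `n ≥ 3`. -/
theorem fine {g d n : ℕ} (hg : 1 ≤ g) (hd : 1 ≤ d) (hn : 3 ≤ n) : Fine.{u} g d n :=
  K540.Fine3.fine hg hd hn _ (fineBig hg hd)

end K245.FineBig
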