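import Groth.Agent.Sga7.H734.JacBC
import Groth.Agent.Picfga.RepB
import Groth.Agent.AgPol.K245.LocProj

/-!
# Gluing of the universal rigidified class over an open cover of the base
-/

set_option autoImplicit false
universe u

open CategoryTheory CategoryTheory.Limits AlgebraicGeometry Opposite

namespace K245.GlueRig

open Groth.Agent Groth.Agent.Grpsch.PicGrp Groth.Agent.Fga.RigGrp Groth.Agent.Sga7.H734.JacBC K245.LocProj
  Groth.Agent.Picfga.RigSheaf Groth.Agent.Picfga

variable {C S : Scheme.{u}} {f : C ⟶ S} {σ : S ⟶ C} {hσ : σ ≫ f = 𝟙 S}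

section chart

variable {S' : Scheme.{u}} {b : S' ⟶ S}

/-- The square of a base change. -/
theorem hq (f : C ⟶ S) (b : S' ⟶ S) : IsPullback (pullback.fst f b) (pullback.snd f b) f b :=
  IsPullback.of_hasPullback f b

/-- The universal class of a chart, over `S`. -/
noncomputable def cls {P : Over S'} (ξ : Pic (PicF.XT (pullback.snd f b) P)) :
    Pic (PicF.XT f ((Over.map b).obj P)) :=
  have := isIso_io (hq f b) P
  pull (inv (io (hq f b) P)) ξ

theorem pull_io_cls {P : Over S'} (ξ : Pic (PicF.XT (pullback.snd f b) P)) :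
    pull (io (hq f b) P) (cls ξ) = ξ := by
  have := isIso_io (hq f b) P
  rw [cls, ← pull_comp, IsIso.hom_inv_id, pull_id]

theorem pull_io_injective (T : Over S') : Function.Injective
    (pull (io (hq f b) T) : Pic (PicF.XT f ((Over.map b).obj T)) → Pic (PicF.XT (pullback.snd f b) T)) := by
  have := isIso_io (hq f b) T
  intro x y hxy
  have h := congrArg (pull (inv (io (hq f b) T))) hxy
  rwa [← pull_comp, ← pull_comp, IsIso.inv_hom_id, pull_id, pull_id] at h

theorem cls_mem {P : Over S'} {ξ : Pic (PicF.XT (pullback.snd f b) P)}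
    (h : ξ ∈ Rg (pullback.snd f b) (secb f σ hσ b) (secb_snd f σ hσ b) P) :
    cls ξ ∈ Rg f σ hσ ((Over.map b).obj P) := by
  rw [mem_Rg, ← sec_io (hq f b) σ hσ (secb f σ hσ b) (secb_snd f σ hσ b) (secb_fst f σ hσ b) P, pull_comp,
    pull_io_cls]
  exact h

theorem mem_of_io {T : Over S'} {c : Pic (PicF.XT f ((Over.map b).obj T))} (h : c ∈ Rg f σ hσ _) :
    pull (io (hq f b) T) c ∈ Rg (pullback.snd f b) (secb f σ hσ b) (secb_snd f σ hσ b) T := by
  rw [mem_Rg, ← pull_comp, sec_io (hq f b) σ hσ (secb f σ hσ b) (secb_snd f σ hσ b) (secb_fst f σ hσ b) T]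
  exact h

/-- The universal property of a chart. -/
theorem chart [Mono b] {P : Over S'} {ξ : Pic (PicF.XT (pullback.snd f b) P)}
    (h : IsUniv (pullback.snd f b) (secb f σ hσ b) (secb_snd f σ hσ b) P ξ) (T : Over S) (k : T.left ⟶ S')
    (hk : k ≫ b = T.hom) (c : Pic (PicF.XT f T)) (hc : c ∈ Rg f σ hσ T) :
    ∃! a : T ⟶ (Over.map b).obj P, pull (PicF.XTmap f a) (cls ξ) = c := by
  let Tk : Over S' := Over.mk k
  let e : (Over.map b).obj Tk ⟶ T := Over.homMk (𝟙 T.left) (by
    change 𝟙 T.left ≫ T.hom = k ≫ b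
    rw [hk, Category.id_comp])
  let e' : T ⟶ (Over.map b).obj Tk := Over.homMk (𝟙 T.left) (by
    change 𝟙 T.left ≫ k ≫ b = T.hom
    rw [hk, Category.id_comp])
  have he : e ≫ e' = 𝟙 _ := Over.OverMorphism.ext (Category.id_comp _)
  have he' : e' ≫ e = 𝟙 _ := Over.OverMorphism.ext (Category.id_comp _)
  obtain ⟨g, hg, hu⟩ := h.2 Tk (pull (io (hq f b) Tk) (pull (PicF.XTmap f e) c)) (mem_of_io (pull_mem e hc))
  have hg' : pull (PicF.XTmap (pullback.snd f b) g) ξ = pull (io (hq f b) Tk) (pull (PicF.XTmap f e) c) := hg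
  have key : ∀ g : Tk ⟶ P, pull (io (hq f b) Tk) (pull (PicF.XTmap f ((Over.map b).map g)) (cls ξ)) =
      pull (PicF.XTmap (pullback.snd f b) g) ξ := by
    intro g
    rw [← pull_comp, io_nat, pull_comp, pull_io_cls]
  refine ⟨e' ≫ (Over.map b).map g, ?_, ?_⟩
  · change pull (PicF.XTmap f (e' ≫ (Over.map b).map g)) (cls ξ) = c
    have h1 : pull (PicF.XTmap f ((Over.map b).map g)) (cls ξ) = pull (PicF.XTmap f e) c := by
      apply pull_io_injective
      rw [key, hg']
    rw [XTmap_comp, pull_comp, h1, ← pull_comp, ← XTmap_comp, he', XTmap_id, pull_id]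
  · intro a ha
    have ha' : pull (PicF.XTmap f a) (cls ξ) = c := ha
    let ga : Tk ⟶ P := Over.homMk a.left (by
      change a.left ≫ P.hom = k
      rw [← cancel_mono b, Category.assoc, hk]
      exact Over.w a)
    have h1 : (Over.map b).map ga = e ≫ a := Over.OverMorphism.ext (Category.id_comp _).symm
    have h2 : ga = g := hu _ (by
      change pull (PicF.XTmap (pullback.snd f b) ga) ξ = _
      rw [← key, h1, XTmap_comp, pull_comp, ha'])
    rw [← h2, h1, ← Category.assoc, he', Category.id_comp]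

end chart

section glue

variable {ι : Type u} {S' : ι → Scheme.{u}} (b : ∀ i, S' i ⟶ S) [∀ i, IsOpenImmersion (b i)]
  (hb : ∀ s : S, ∃ i, s ∈ Set.range (b i))
  {P : ∀ i, Over (S' i)} {ξ : ∀ i, Pic (PicF.XT (pullback.snd f (b i)) (P i))}
  (h : ∀ i, IsUniv (pullback.snd f (b i)) (secb f σ hσ (b i)) (secb_snd f σ hσ (b i)) (P i) (ξ i))

/-- Over the locus of the base where a chart lives every rigidified class comes from the chart. -/
theorem exists_hom (i : ι) {T : Over S} (x : (rig f σ hσ).obj (op T)) :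
    ∃ k : Over.mk ((T.hom ⁻¹ᵁ (b i).opensRange).ι ≫ T.hom) ⟶ (Over.map (b i)).obj (P i),
      (rig f σ hσ).map k.op (rigEquiv f σ hσ _ ⟨cls (ξ i), cls_mem (h i).1⟩) =
        (rig f σ hσ).map (OverRep.res T (T.hom ⁻¹ᵁ (b i).opensRange)).op x := by
  obtain ⟨d, rfl⟩ := (rigEquiv f σ hσ T).surjective x
  obtain ⟨k, hk, -⟩ := chart (h i) (Over.mk ((T.hom ⁻¹ᵁ (b i).opensRange).ι ≫ T.hom))
    (IsOpenImmersion.lift (b i) ((T.hom ⁻¹ᵁ (b i).opensRange).ι ≫ T.hom) (by
      rintro _ ⟨v, rfl⟩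
      exact v.2))
    (IsOpenImmersion.lift_fac _ _ _) (pull (PicF.XTmap f (OverRep.res T (T.hom ⁻¹ᵁ (b i).opensRange))) d.1)
    (pull_mem _ d.2)
  have hk' : pull (PicF.XTmap f k) (cls (ξ i)) = _ := hk
  refine ⟨k, Subtype.ext ?_⟩
  rw [rig_map_val, rig_map_val]
  change PicF.pullCl _ (toCl _) = PicF.pullCl _ (toCl _)
  rw [← toCl_pull, ← toCl_pull, hk']

/-- The charts of the rigidified Picard functor given by universal classes over an open cover of the base. -/
noncomputable def charts : OverRep.Charts (rig f σ hσ) where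
  ι := ι
  X i := (Over.map (b i)).obj (P i)
  ξ i := rigEquiv f σ hσ _ ⟨cls (ξ i), cls_mem (h i).1⟩
  mono i T u v huv := by
    have h1 := congrArg Subtype.val huv
    rw [rig_map_val, rig_map_val] at h1
    change PicF.pullCl _ (toCl _) = PicF.pullCl _ (toCl _) at h1
    rw [← toCl_pull, ← toCl_pull] at h1
    have h2 := toCl_injective h1
    exact (chart (h i) T (u.left ≫ (P i).hom) ((Category.assoc _ _ _).trans (Over.w u))
      (pull (PicF.XTmap f v) (cls (ξ i))) (pull_mem _ (cls_mem (h i).1))).unique h2 rfl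
  isOpen i T x T' g k hk t := by
    obtain ⟨k', hk'⟩ := exists_hom b h i x
    refine ⟨_, k', ?_, hk'⟩
    change T.hom (g.left t) ∈ (b i).opensRange
    refine ⟨(P i).hom (k.left t), ?_⟩
    have h1 : k.left ≫ (P i).hom ≫ b i = g.left ≫ T.hom := (Over.w k).trans (Over.w g).symm
    have h2 := congrArg (fun z : T'.left ⟶ S => z t) h1
    exact h2
  covers T x t := by
    obtain ⟨i, hi⟩ := hb (T.hom t)
    obtain ⟨k', hk'⟩ := exists_hom b h i x
    exact ⟨i, _, k', hi, hk'⟩

include hb h in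
/-- **Gluing**: universal rigidified classes over an open cover of the base glue. -/
theorem exists_glue (hF : ∀ T : Over S, Function.Bijective (PicF.XTproj f T).appTop) :
    ∃ (H : Over S) (Z : Pic (PicF.XT f H)), IsUniv f σ hσ H Z ∧
      ∃ j : ∀ i, (Over.map (b i)).obj (P i) ⟶ H, (∀ i, IsOpenImmersion (j i).left) ∧
        ∀ y : H.left, ∃ i z, (j i).left z = y := by
  obtain ⟨H, Z, j, h1, h2, -, h4⟩ := (charts b hb h).exists_universal' (isZarSheaf_rig (hσ := hσ) hF)
  obtain ⟨Z, rfl⟩ := (rigEquiv f σ hσ H).surjective Z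
  refine ⟨H, Z.1, (isUniv_iff f σ hσ H Z).2 fun T c => ?_, j, h2, h4⟩
  obtain ⟨g, hg, hu⟩ := h1 T c
  exact ⟨g, congrArg Subtype.val hg, fun g' hg' => hu g' (Subtype.ext hg')⟩

end glue

end K245.GlueRig
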