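import Groth.Agent.AgPol.K245.JacSec
import Groth.Agent.AbVar.K505.JacBase
import Groth.Agent.JacVar.K532.Fine

/-!
# Base change of the Jacobian over any base, and the Jacobian over a field as a coarse moduli space
-/

set_option autoImplicit false
universe u

open CategoryTheory CategoryTheory.Limits AlgebraicGeometry Opposite MonoidalCategory CartesianMonoidalCategory MonObj

namespace K245.JacGeom

open Groth.Agent Groth.Agent.Grpsch.PicGrp Groth.Agent.Fga.RigGrp K245.LocProj K245.GlueRig K732.Cov K530.PicZero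
  K247.DegFn K245.RepSec Groth.Agent.Sga7.H732.Hedge Groth.Agent.Sga7.H734.JacBC Groth.Agent.Sga3B.BcPts K245.JacSec

variable {C S : Scheme.{u}}

section bc

variable {S' C' : Scheme.{u}} {b : S' ⟶ S} {f : C ⟶ S} {f' : C' ⟶ S'} {q : C' ⟶ C}

/-- The counit of base change. -/
noncomputable def bcPr (b : S' ⟶ S) (J : Over S) : (Over.map b).obj (Red.bc b J) ⟶ J :=
  (bcEquiv b (Red.bc b J) J).symm (𝟙 _)

/-- The class on `C' × J'` pulled back from `C × J`. -/
noncomputable def bcCls (hq : IsPullback q f' f b) {J : Over S} (ξ : Pic (PicF.XT f J)) :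
    Pic (PicF.XT f' (Red.bc b J)) := cc hq ξ (bcPr b J)

theorem isJac_bc [IsProper f] [Smooth f] [GeometricallyConnected f]
    (hdim : ∀ s : S, topologicalKrullDim ↥(f.fiber s) = 1) (hq : IsPullback q f' f b)
    {σ : S ⟶ C} {hσ : σ ≫ f = 𝟙 _} {σ' : S' ⟶ C'} {hσ' : σ' ≫ f' = 𝟙 _} (hσσ : σ' ≫ q = b ≫ σ)
    {J : Over S} [GrpObj J] {ξ : Pic (PicF.XT f J)} (hJ : IsJac f σ hσ J ξ) :
    IsJac f' σ' hσ' (Red.bc b J) (bcCls hq ξ) := by
  have hp' : IsProper f' := MorphismProperty.of_isPullback (P := @IsProper) hq inferInstance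
  have hs' : Smooth f' := MorphismProperty.of_isPullback (P := @Smooth) hq inferInstance
  have hc' : GeometricallyConnected f' :=
    MorphismProperty.of_isPullback (P := @GeometricallyConnected) hq inferInstance
  have hdim' : ∀ s : S', topologicalKrullDim ↥(f'.fiber s) = 1 := fun s =>
    (Flat2G.ProperDim.topologicalKrullDim_fiber_baseChange f f' q b hq s).trans (hdim _)
  have ha : ∀ {T : Over S'} (g : T ⟶ Red.bc b J),
      (Over.map b).map g ≫ bcPr b J = (bcEquiv b T J).symm g := by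
    intro T g
    rw [bcPr, ← comp_bcEquiv_symm, Category.comp_id]
  refine ⟨cc_mem hq ξ σ hσ σ' hσ' hσσ hJ.mem _, ?_, ?_, ?_⟩
  · rw [fibDeg_iff f' hdim']
    exact ((fibDeg_iff f hdim _ _).1 hJ.deg).pull _ _ (isPullback_cc hq (bcPr b J)).w
  · intro T g h
    rw [bcCls, ← cc_comp, ← cc_comp, ← cc_comp, ha, ha, ha]
    have h1 : (bcEquiv b T J).symm (g * h) = (bcEquiv b T J).symm g * (bcEquiv b T J).symm h :=
      map_mul (bcMulEquiv b T J).symm g h
    rw [h1, cc_mul hq ξ hJ.mul]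
  · intro T c hc hc0
    have hiso := isIso_io hq T
    let c₀ := pull (inv (io hq T)) c
    have e0 : pull (io hq T) c₀ = c := by
      rw [← pull_comp, IsIso.hom_inv_id, pull_id]
    have h1 : c₀ ∈ Rg f σ hσ ((Over.map b).obj T) := by
      rw [mem_Rg, ← sec_io hq σ hσ σ' hσ' hσσ T, pull_comp, e0]
      exact hc
    have h2 : FGA.HasFibreDegreeZeroCl f ((Over.map b).obj T) (Fga.RigGrp.toCl c₀) := by
      rw [fibDeg_iff f hdim]
      rw [fibDeg_iff f' hdim'] at hc0
      refine hc0.pull (inv (io hq T)) (𝟙 T.left) ?_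
      rw [IsIso.inv_comp_eq]
      have h3 := io_snd hq T
      exact h3.symm.trans (congrArg _ (Category.comp_id _).symm)
    obtain ⟨g₀, hg₀, hu⟩ := hJ.univ _ c₀ h1 h2
    have hg₀' : pull (PicF.XTmap f g₀) ξ = c₀ := hg₀
    refine ⟨bcEquiv b T J g₀, ?_, ?_⟩
    · change pull (PicF.XTmap f' (bcEquiv b T J g₀)) (cc hq ξ (bcPr b J)) = c
      rw [← cc_comp, ha, Equiv.symm_apply_apply, cc_eq, hg₀', e0]
    · intro g hg
      have hg' : pull (PicF.XTmap f' g) (cc hq ξ (bcPr b J)) = c := hg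
      rw [← cc_comp, ha, cc_eq] at hg'
      have h3 : (bcEquiv b T J).symm g = g₀ := hu _ (by
        change pull (PicF.XTmap f ((bcEquiv b T J).symm g)) ξ = pull (inv (io hq T)) c
        rw [← hg', ← pull_comp, IsIso.inv_hom_id, pull_id])
      rw [← h3, Equiv.apply_symm_apply]

end bc

section field

variable {k : Type u} [Field k] {f : C ⟶ Spec (CommRingCat.of k)} {σ : Spec (CommRingCat.of k) ⟶ C} {hσ : σ ≫ f = 𝟙 _}

open K532.Fine in
/-- **The Jacobian over a field is a coarse moduli space with the right group law.** -/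
theorem isJacobian [IsProper f] [Smooth f] [GeometricallyConnected f] (hdim : topologicalKrullDim C = 1)
    {J₀ : Over (Spec (CommRingCat.of k))} [GrpObj J₀] {ξ₀ : Pic (PicF.XT f J₀)} (h₀ : IsJac f σ hσ J₀ ξ₀) :
    Jac.IsJacobian f ⊤ J₀ (psi hdim h₀) := by
  refine ⟨⟨fun _ _ _ _ => trivial, isBestApprox hdim h₀, fun Ω _ _ t hP => ⟨fun g => ?_, fun x y hx hy hxy => ?_⟩⟩,
    fun T hT L M N hL hM hN e => ?_⟩
  · obtain ⟨L, hL, h1⟩ := exists_family hdim (pull (PicF.XTmap f g) ξ₀) (Sga7.H732.Abel.deg_pull _ _ h₀.deg)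
    refine ⟨L, hL, ?_⟩
    apply Sga7.H732.Abel.cls_injective h₀
    rw [Sga7.H732.Abel.cls_apply, Sga7.H732.Abel.cls_apply, pull_psi, h1, norm_of_mem _ _ _ (pull_mem g h₀.mem)]
  · have hx' := ((ok_iff f hdim 0 _ x).1 hx).1
    have hy' := ((ok_iff f hdim 0 _ y).1 hy).1
    refine (r_iff f σ hσ x y hx' hy').2 ?_
    have h1 := pull_psi hdim h₀ (L := x) trivial hx
    have h2 := pull_psi hdim h₀ (L := y) trivial hy
    have h3 : (psi hdim h₀).app (Over.mk t) x trivial hx = (psi hdim h₀).app (Over.mk t) y trivial hy := hxy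
    rw [h3, h2] at h1
    exact h1.symm
  · apply Sga7.H732.Abel.cls_injective h₀
    rw [Sga7.H732.Abel.cls_apply, Sga7.H732.Abel.cls_apply, h₀.mul, pull_psi, pull_psi, pull_psi, ← map_mul]
    congr 1
    obtain ⟨e⟩ := e
    have hL' := ((ok_iff f hdim 0 _ L).1 hL).1
    have hM' := ((ok_iff f hdim 0 _ M).1 hM).1
    rw [K532.Fine.cls, K532.Fine.cls, K532.Fine.cls, mk_mul_mk]
    exact mk_congr e

end field

end K245.JacGeom
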