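import Groth.Agent.AgPol.K245.RepSec
import Groth.Agent.Sga7.H732.Hedge
import Groth.Agent.Fga.JacFib
import Groth.Agent.PicF.K247.JacDim
import Groth.Agent.EssDim.K995.CurveBasic
import Groth.Agent.EssDim.K995.GenusField
import Groth.Prelude.Def_AgPol

/-!
# The Jacobian of a relative curve of genus `g` with a section over a locally Noetherian base is an abelian scheme
-/

set_option autoImplicit false
universe u

open CategoryTheory CategoryTheory.Limits AlgebraicGeometry Opposite MonoidalCategory CartesianMonoidalCategory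

namespace K245.JacSec

open Groth.Agent Groth.Agent.Grpsch.PicGrp Groth.Agent.Fga.RigGrp K245.LocProj K245.GlueRig K732.Cov K530.PicZero
  K247.DegFn K245.RepSec Groth.Agent.Sga7.H732.Hedge

variable {C S : Scheme.{u}}

section curve

/-- Base change of a curve of genus `g`. -/
theorem isCurve_of_isPullback {g : ℕ} {f : C ⟶ S} (hf : ModFun.IsCurveOfGenus g f) {C' S' : Scheme.{u}}
    {q : C' ⟶ C} {f' : C' ⟶ S'} {b : S' ⟶ S} (h : IsPullback q f' f b) : ModFun.IsCurveOfGenus g f' := by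
  obtain ⟨h1, h2, h3, h4⟩ := hf
  refine ⟨MorphismProperty.of_isPullback (P := @Smooth) h h1, MorphismProperty.of_isPullback (P := @IsProper) h h2,
    MorphismProperty.of_isPullback (P := @GeometricallyIrreducible) h h3, fun Ω _ _ t X i p hX => ?_⟩
  exact h4 Ω (t ≫ b) X (i ≫ q) p (hX.paste_horiz h)

theorem dim_fiber {g : ℕ} {f : C ⟶ S} (hf : ModFun.IsCurveOfGenus g f) (s : S) :
    topologicalKrullDim ↥(f.fiber s) = 1 :=
  K995.CurveBasic.dim_eq_one (k := S.residueField s)
    (isCurve_of_isPullback hf (IsPullback.of_hasPullback f (S.fromSpecResidueField s)))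

theorem fiberRank_eq {g : ℕ} {f : C ⟶ S} (hf : ModFun.IsCurveOfGenus g f) (s : S) :
    CohIII.fiberRank f (Coh.structureModule C) 1 s = g := by
  let _ : (f.fiber s).Over (Spec (CommRingCat.of (S.residueField s))) := ⟨f.fiberToSpecResidueField s⟩
  have h4 : Module.finrank (S.residueField s) (Coh.HH (f.fiber s) (Coh.structureModule (f.fiber s)) 1) =
      CohIII.fiberRank f (Coh.structureModule C) 1 s :=
    (CurvesA.HHMap.equivOver (X := f.fiber s) (S.residueField s)
      (CurvesA.HHMap.pullbackUnit (f.fiberι s)) 1).finrank_eq.symm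
  rw [← h4]
  exact K995.CurveBasic.h1_eq (k := S.residueField s)
    (isCurve_of_isPullback hf (IsPullback.of_hasPullback f (S.fromSpecResidueField s)))

end curve

/-- Fibre degree zero is being in `Pic⁰`. -/
theorem fibDeg_iff (f : C ⟶ S) [IsProper f] [Smooth f] [GeometricallyConnected f]
    (hdim : ∀ s : S, topologicalKrullDim ↥(f.fiber s) = 1) (T : Over S) (c : Pic (PicF.XT f T)) :
    FGA.HasFibreDegreeZeroCl f T (toCl c) ↔ FibZero (PicF.XTproj f T) c := by
  rw [Fga.JacFib.fibStep f T c, K247.FibDeg.fibZero_iff f hdim]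
  exact forall_congr' fun τ => sub_eq_zero.symm

/-- **The Jacobian of a relative curve with a section.** -/
theorem exists_jac [IsLocallyNoetherian S] {g : ℕ} (f : C ⟶ S) (hf : ModFun.IsCurveOfGenus g f)
    (σ : S ⟶ C) (hσ : σ ≫ f = 𝟙 S) :
    ∃ (J : Over S) (_ : GrpObj J) (_ : IsCommMonObj J) (ξ : Pic (PicF.XT f J)),
      AgPol.IsAbSch J g ∧ IsJac f σ hσ J ξ := by
  have hsm : Smooth f := hf.1
  have hpr : IsProper f := hf.2.1
  have hir : GeometricallyIrreducible f := hf.2.2.1
  have hgc : GeometricallyConnected f := K995.CurveBasic.geometricallyConnected f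
  have hdim := dim_fiber hf
  obtain ⟨P, ξ, h, hlft⟩ := exists_isUniv f hdim σ hσ
  have hlfp : LocallyOfFinitePresentation P.hom := LocallyOfFinitePresentation.iff_locallyOfFiniteType.2 hlft
  obtain ⟨P₀, j, hj, h₀⟩ := exists_univZero hdim h
  have hlfp₀ : LocallyOfFinitePresentation P₀.hom := by
    rw [← Over.w j]
    infer_instance
  have hP := isRelPicK h
  have hP₀ := isRelPicZeroK h₀
  obtain ⟨-, -, hp, hs, hgc₀⟩ := S12415.result f hdim P (phi h) hP P₀ (phi₀ h₀) hP₀ j (fun T c hc => by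
    obtain ⟨c, rfl⟩ := exists_toCl_of_isPicZeroCl f hc
    rw [isPicZeroCl_toCl_iff] at hc
    apply h.hom_ext
    rw [XTmap_comp, pull_comp, pull_phi₀ h₀ T c hc, pull_phi h])
  obtain ⟨hG, hC, hmul⟩ := K247.GrpZero.exists_grp σ hσ hP₀
  refine ⟨P₀, hG, hC, _, ⟨hs, hp, hgc₀, fun s => ?_⟩, ⟨h₀.mem, ?_, ?_, ?_⟩⟩
  · rw [S12407.result f hdim P₀ (phi₀ h₀) hP₀ s, fiberRank_eq hf s]
  · rw [fibDeg_iff f hdim]
    exact h₀.zero
  · intro T x y
    have h1 := hmul T (pull (PicF.XTmap f x) (pull (PicF.XTmap f j) ξ)) (pull (PicF.XTmap f y) (pull (PicF.XTmap f j) ξ))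
      (h₀.zero.pull _ _ (XTmap_XTproj f x)) (h₀.zero.pull _ _ (XTmap_XTproj f y))
    rw [phi₀_pull, phi₀_pull] at h1
    rw [← h1, pull_phi₀ h₀ _ _ (FibZero.mul (h₀.zero.pull _ _ (XTmap_XTproj f x))
      (h₀.zero.pull _ _ (XTmap_XTproj f y))), map_mul, norm_of_mem _ _ _ (pull_mem x h₀.mem),
      norm_of_mem _ _ _ (pull_mem y h₀.mem)]
  · intro T c hc hc0
    rw [fibDeg_iff f hdim] at hc0
    exact h₀.univ T c hc hc0

end K245.JacSec
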