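import Groth.Agent.AgPol.K245.PushDet

/-!
# The determinant of cohomology on the Jacobian of a family of curves

`main : K245.NodeMum.Node`: for `ℓ⁻¹ = det π_*(ξ(nσ))` (normalised along the zero section) the Mumford class satisfies
`(α × 1)^* Mum(ℓ) = ξ⁻¹` on `C × J`, over any locally Noetherian base.
-/

set_option autoImplicit false
set_option linter.unusedSectionVars false
universe u
open CategoryTheory CategoryTheory.Limits AlgebraicGeometry Opposite TopologicalSpace MonoidalCategory CartesianMonoidalCategory MonObj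

namespace K245.MumMain

open Groth.Agent Groth.Agent.Grpsch.PicGrp Groth.Agent.Fga.RigGrp Groth.Agent.Fga.JacSum K247.DegFn K245.CurveVan
  K245.CurveDeg K245.PushDet K245.NodeMum Groth.Agent.Sga7.H732.Hedge

variable {C S : Scheme.{u}} {f : C ⟶ S} {g : ℕ} [SmoothOfRelativeDimension 1 f] [IsSeparated f]
  {σ : S ⟶ C} (hσ : σ ≫ f = 𝟙 S)

/-- The class of `O(-σ)` on `C_T`. -/
noncomputable def sg (T : Over S) : Pic (PicF.XT f T) := gcl f (Pt.ofSection hσ T)

theorem pull_sg {T T' : Over S} (h : T' ⟶ T) : pull (PicF.XTmap f h) (sg hσ T) = sg hσ T' := by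
  rw [sg, pull_gcl, Pt.ofSection_comp]; rfl

theorem sec_comp {T T' : Over S} (z : Pt f T) (h : T' ⟶ T) : sec (z.comp h) ≫ PicF.XTmap f h = h.left ≫ sec z := by
  apply pullback.hom_ext
  · rw [Category.assoc, Category.assoc, sec_fst]
    exact (congrArg (fun w => sec (z.comp h) ≫ w) (Fga.RigGrp.XTmap_fst f h)).trans (sec_fst _)
  · have h1 : PicF.XTmap f h ≫ PicF.XTproj f T = PicF.XTproj f T' ≫ h.left := Fga.RigGrp.XTmap_XTproj f h
    have h2 : (sec (z.comp h) ≫ PicF.XTmap f h) ≫ PicF.XTproj f T = (h.left ≫ sec z) ≫ PicF.XTproj f T := by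
      rw [Category.assoc, h1, ← Category.assoc, sec_proj, Category.id_comp, Category.assoc, sec_proj, Category.comp_id]
    exact h2

theorem sec_ofSection (T : Over S) : sec (Pt.ofSection hσ T) = PicF.secT f σ hσ T := rfl

variable (hf : ModFun.IsCurveOfGenus g f)

include hf in
theorem hasDeg_gcl {T : Over S} (z : Pt f T) : HasDeg f T (-1) (gcl f z) := fun t => by
  have h1 : Smooth f := hf.1
  have h2 : IsProper f := hf.2.1
  have h3 : GeometricallyIrreducible f := hf.2.2.1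
  have h4 : GeometricallyConnected f := K995.CurveBasic.geometricallyConnected f
  exact degAt_gcl f (K245.JacSec.dim_fiber hf) z t

include hf in
theorem hasDeg_mul {T : Over S} {a b : ℤ} {x y : Pic (PicF.XT f T)} (hx : HasDeg f T a x) (hy : HasDeg f T b y) :
    HasDeg f T (a + b) (x * y) := fun t => by
  have h1 : Smooth f := hf.1
  have h2 : IsProper f := hf.2.1
  have h3 : GeometricallyIrreducible f := hf.2.2.1
  have h4 : GeometricallyConnected f := K995.CurveBasic.geometricallyConnected f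
  rw [degAt_mul f (K245.JacSec.dim_fiber hf), hx, hy]

include hf in
theorem hasDeg_inv {T : Over S} {a : ℤ} {x : Pic (PicF.XT f T)} (hx : HasDeg f T a x) :
    HasDeg f T (-a) x⁻¹ := fun t => by
  have h1 : Smooth f := hf.1
  have h2 : IsProper f := hf.2.1
  have h3 : GeometricallyIrreducible f := hf.2.2.1
  have h4 : GeometricallyConnected f := K995.CurveBasic.geometricallyConnected f
  rw [degAt_inv f (K245.JacSec.dim_fiber hf), hx]

include hf in
theorem hasDeg_pow {T : Over S} {a : ℤ} {x : Pic (PicF.XT f T)} (hx : HasDeg f T a x) (m : ℕ) :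
    HasDeg f T (m * a) (x ^ m) := fun t => by
  have h1 : Smooth f := hf.1
  have h2 : IsProper f := hf.2.1
  have h3 : GeometricallyIrreducible f := hf.2.2.1
  have h4 : GeometricallyConnected f := K995.CurveBasic.geometricallyConnected f
  rw [degAt_pow f (K245.JacSec.dim_fiber hf), hx]

include hf in
theorem hasDeg_tw (T : Over S) {x : Pic (PicF.XT f T)} (hx : HasDeg f T 0 x) (m : ℕ) :
    HasDeg f T m (x * (sg hσ T)⁻¹ ^ m) := by
  have h := hasDeg_mul hf hx (hasDeg_pow hf (hasDeg_inv hf (hasDeg_gcl hf (Pt.ofSection hσ T))) m)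
  intro t
  refine (h t).trans ?_
  ring

variable {m : ℕ} (hm : 2 * g ≤ m)

/-- The determinant of `f_* x(mσ)`. -/
noncomputable def D (T : Over S) [IsLocallyNoetherian T.left] (x : Pic (PicF.XT f T)) (hx : HasDeg f T 0 x) :
    Pic T.left := dt hf hm T (x * (sg hσ T)⁻¹ ^ m) (hasDeg_tw hσ hf T hx m)

theorem dt_congr (T : Over S) [IsLocallyNoetherian T.left] {c c' : Pic (PicF.XT f T)} (e : c = c')
    (h : HasDeg f T m c) (h' : HasDeg f T m c') : dt hf hm T c h = dt hf hm T c' h' := by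
  subst e; rfl

theorem D_congr (T : Over S) [IsLocallyNoetherian T.left] {c c' : Pic (PicF.XT f T)} (e : c = c')
    (h : HasDeg f T 0 c) (h' : HasDeg f T 0 c') : D hσ hf hm T c h = D hσ hf hm T c' h' := by
  subst e; rfl

theorem D_pull {T T' : Over S} [IsLocallyNoetherian T.left] [IsLocallyNoetherian T'.left] (h : T' ⟶ T)
    (x : Pic (PicF.XT f T)) (hx : HasDeg f T 0 x) (hx' : HasDeg f T' 0 (pull (PicF.XTmap f h) x)) :
    D hσ hf hm T' (pull (PicF.XTmap f h) x) hx' = pull h.left (D hσ hf hm T x hx) := by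
  have e : pull (PicF.XTmap f h) x * (sg hσ T')⁻¹ ^ m = pull (PicF.XTmap f h) (x * (sg hσ T)⁻¹ ^ m) := by
    rw [map_mul, map_pow, map_inv, pull_sg]
  rw [D, D, ← dt_pull hf hm h _ (hasDeg_tw hσ hf T hx m) (e ▸ hasDeg_tw hσ hf T' hx' m)]
  exact dt_congr hf hm T' e _ _

theorem D_acl (hm' : 2 * g ≤ m + 1) (T : Over S) [IsLocallyNoetherian T.left] (z : Pt f T) (x : Pic (PicF.XT f T)) (hx : HasDeg f T 0 x)
    (hx' : HasDeg f T 0 (x * acl f σ hσ z)) :
    D hσ hf hm' T (x * acl f σ hσ z) hx' = D hσ hf hm T x hx * pull (sec z) x *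
      (pull (sec z) ((sg hσ T)⁻¹ ^ m * (gcl f z)⁻¹) *
        (pull (PicF.secT f σ hσ T) ((gcl f z)⁻¹ * sg hσ T))⁻¹ ^ (m + 1 + 1 - g)) := by
  set A : Pic T.left := (pull (PicF.secT f σ hσ T) ((gcl f z)⁻¹ * sg hσ T))⁻¹ with hA
  have e1 : acl f σ hσ z = (gcl f z)⁻¹ * sg hσ T * pull (PicF.XTproj f T) A := by
    rw [acl, norm_apply, div_eq_mul_inv, hA, map_inv]
    rfl
  have e2 : x * acl f σ hσ z * (sg hσ T)⁻¹ ^ (m + 1) =
      (x * (sg hσ T)⁻¹ ^ m * (gcl f z)⁻¹) * pull (PicF.XTproj f T) A := by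
    rw [e1, pow_succ]
    calc x * ((gcl f z)⁻¹ * sg hσ T * pull (PicF.XTproj f T) A) * ((sg hσ T)⁻¹ ^ m * (sg hσ T)⁻¹)
        = (x * (sg hσ T)⁻¹ ^ m * (gcl f z)⁻¹) * pull (PicF.XTproj f T) A * (sg hσ T * (sg hσ T)⁻¹) := by
          ac_rfl
      _ = _ := by rw [mul_inv_cancel, _root_.mul_one]
  have d1 : HasDeg f T (m + 1 : ℕ) (x * (sg hσ T)⁻¹ ^ m * (gcl f z)⁻¹) := by
    have h := hasDeg_mul hf (hasDeg_tw hσ hf T hx m) (hasDeg_inv hf (hasDeg_gcl hf z))
    intro t
    refine (h t).trans ?_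
    push_cast
    ring
  rw [D, dt_congr hf hm' T e2 _ (e2 ▸ hasDeg_tw hσ hf T hx' (m + 1)), dt_twist hf hm' T _ d1,
    dt_sec hf hm hm' T z _ (hasDeg_tw hσ hf T hx m) d1, D]
  rw [map_mul (pull (sec z)) (x * _), map_mul (pull (sec z)) x, map_mul (pull (sec z)) _ ((gcl f z)⁻¹)]
  ac_rfl

theorem acl_ofSection (T : Over S) : acl f σ hσ (Pt.ofSection hσ T) = 1 := by
  rw [acl, inv_mul_cancel, map_one]

section main

variable {J : Over S} [GrpObj J] {ξ : Pic (PicF.XT f J)}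

theorem hasDeg_xi [QuasiCompact f] (hJ : IsJac f σ hσ J ξ) : HasDeg f J 0 ξ := fun t => by
  have h := (Fga.JacFib.fibStep f J ξ).1 hJ.deg t
  rw [degAt, h, sub_self]

/-- the tautological point of `C` over `C × J` -/
noncomputable def tz (f : C ⟶ S) (J : Over S) : Pt f (Over.mk f ⊗ J) := ⟨(fst (Over.mk f) J).left, Over.w (fst (Over.mk f) J)⟩

theorem tz_eq : tz f J = (idPt f).comp (fst (Over.mk f) J) := Subtype.ext (Category.comp_id _).symm

/-- `ξ` as a class on `C × J`. -/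
noncomputable def xc (ξ : Pic (PicF.XT f J)) : Pic (Over.mk f ⊗ J).left := ξ

theorem taut (ξ : Pic (PicF.XT f J)) :
    pull (sec (tz f J)) (pull (PicF.XTmap f (snd (Over.mk f) J)) ξ) = xc ξ := by
  rw [← pull_comp]
  have e : sec (tz f J) ≫ PicF.XTmap f (snd (Over.mk f) J) = 𝟙 (PicF.XT f J) := by
    apply pullback.hom_ext
    · rw [Category.assoc]
      refine (congrArg (fun w => sec (tz f J) ≫ w) (Fga.RigGrp.XTmap_fst f _)).trans ?_
      refine (sec_fst _).trans ?_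
      exact (Category.id_comp _).symm
    · have h1 : PicF.XTmap f (snd (Over.mk f) J) ≫ PicF.XTproj f J = PicF.XTproj f _ ≫ (snd (Over.mk f) J).left :=
        Fga.RigGrp.XTmap_XTproj f _
      have h2 : (sec (tz f J) ≫ PicF.XTmap f (snd (Over.mk f) J)) ≫ PicF.XTproj f J =
          𝟙 (PicF.XT f J) ≫ PicF.XTproj f J := by
        rw [Category.assoc, h1, ← Category.assoc, sec_proj, Category.id_comp, Category.id_comp]
        rfl
      exact h2
  rw [e]
  exact pull_id _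

/-- the correction term attached to a point -/
noncomputable def Et (g m : ℕ) (T : Over S) (z : Pt f T) : Pic T.left :=
  pull (sec z) ((sg hσ T)⁻¹ ^ m * (gcl f z)⁻¹) *
    (pull (PicF.secT f σ hσ T) ((gcl f z)⁻¹ * sg hσ T))⁻¹ ^ (m + 1 + 1 - g)

theorem secT_comp {T T' : Over S} (h : T' ⟶ T) :
    PicF.secT f σ hσ T' ≫ PicF.XTmap f h = h.left ≫ PicF.secT f σ hσ T := by
  have h1 := sec_comp (Pt.ofSection hσ T) h
  rwa [Pt.ofSection_comp] at h1

theorem Et_comp (m : ℕ) {T T' : Over S} (z : Pt f T) (h : T' ⟶ T) :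
    Et hσ g m T' (z.comp h) = pull h.left (Et hσ g m T z) := by
  rw [Et, Et, map_mul (pull h.left), map_pow, map_inv (pull h.left), ← pull_comp h.left, ← pull_comp h.left,
    ← sec_comp, ← secT_comp, pull_comp, pull_comp]
  congr 2
  · rw [map_mul (pull (PicF.XTmap f h)), map_pow, map_inv, map_inv, pull_sg, pull_gcl]
  · rw [map_mul (pull (PicF.XTmap f h)), map_inv, pull_sg, pull_gcl]

/-- the correction term for the change of `m` -/
noncomputable def Ft (m : ℕ) (T : Over S) : Pic T.left :=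
  pull (PicF.secT f σ hσ T) ((sg hσ T)⁻¹ ^ m * (sg hσ T)⁻¹)

theorem Ft_pull (m : ℕ) {T T' : Over S} (h : T' ⟶ T) : pull h.left (Ft hσ m T) = Ft hσ m T' := by
  rw [Ft, Ft, ← pull_comp, ← secT_comp, pull_comp, map_mul (pull (PicF.XTmap f h)), map_pow, map_inv, pull_sg]

theorem D_succ (hm' : 2 * g ≤ m + 1) (T : Over S) [IsLocallyNoetherian T.left] (x : Pic (PicF.XT f T))
    (hx : HasDeg f T 0 x) (hxr : x ∈ Rg f σ hσ T) :
    D hσ hf hm' T x hx = D hσ hf hm T x hx * Ft hσ m T := by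
  have h1 : HasDeg f T 0 (x * acl f σ hσ (Pt.ofSection hσ T)) := by rw [acl_ofSection, _root_.mul_one]; exact hx
  have h2 := D_acl hσ hf hm hm' T (Pt.ofSection hσ T) x hx h1
  have h3 : x * acl f σ hσ (Pt.ofSection hσ T) = x := by rw [acl_ofSection, _root_.mul_one]
  rw [D_congr hσ hf hm' T h3 h1 hx] at h2
  rw [h2, sec_ofSection, (mem_Rg f σ hσ).1 hxr, _root_.mul_one]
  have h4 : (gcl f (Pt.ofSection hσ T))⁻¹ * sg hσ T = 1 := inv_mul_cancel _
  rw [h4, map_one, inv_one, one_pow, _root_.mul_one]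
  rfl

include hf hm in
theorem exists_key [QuasiCompact f] (hm' : 2 * g ≤ m + 1) [IsLocallyNoetherian J.left]
    [IsLocallyNoetherian (Over.mk f ⊗ J).left] (hJ : IsJac f σ hσ J ξ) {α : Over.mk f ⟶ J}
    (hα : IsAbelS f σ hσ ξ α) : ∃ B : Pic (Over.mk f).left,
      pull ((fst (Over.mk f) J ≫ α) * snd (Over.mk f) J).left (D hσ hf hm' J ξ (hasDeg_xi hσ hJ)) =
        pull (snd (Over.mk f) J).left (D hσ hf hm' J ξ (hasDeg_xi hσ hJ)) * xc ξ * pull (fst (Over.mk f) J).left B := by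
  set T : Over S := Over.mk f ⊗ J with hT
  set h : T ⟶ J := (fst (Over.mk f) J ≫ α) * snd (Over.mk f) J with hh
  set x : Pic (PicF.XT f T) := pull (PicF.XTmap f (snd (Over.mk f) J)) ξ with hx
  have e1 : pull (PicF.XTmap f h) ξ = x * acl f σ hσ (tz f J) := by
    rw [hh, hJ.mul, mul_comm]
    congr 1
    have h1 := hα T (tz f J)
    exact h1
  have dx : HasDeg f T 0 x := (hasDeg_xi hσ hJ).pull _
  have dh : HasDeg f T 0 (pull (PicF.XTmap f h) ξ) := (hasDeg_xi hσ hJ).pull _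
  have e2 := D_pull hσ hf hm' h ξ (hasDeg_xi hσ hJ) dh
  have e3 := D_pull hσ hf hm (snd (Over.mk f) J) ξ (hasDeg_xi hσ hJ) dx
  have e4 := D_succ hσ hf hm hm' J ξ (hasDeg_xi hσ hJ) hJ.mem
  have e5 := D_acl hσ hf hm hm' T (tz f J) x dx (e1 ▸ dh)
  rw [← D_congr hσ hf hm' T e1 dh] at e5
  refine ⟨Et hσ g m (Over.mk f) (idPt f) * (Ft hσ m (Over.mk f))⁻¹, ?_⟩
  rw [← e2, e5, e3, map_mul (pull (fst (Over.mk f) J).left), ← Et_comp, ← tz_eq, map_inv, Ft_pull, e4,
    map_mul (pull (snd (Over.mk f) J).left), Ft_pull]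
  have e6 : pull (sec (tz f J)) x = xc ξ := taut ξ
  rw [e6]
  have e7 : pull (sec (tz f J)) ((sg hσ T)⁻¹ ^ m * (gcl f (tz f J))⁻¹) *
      (pull (PicF.secT f σ hσ T) ((gcl f (tz f J))⁻¹ * sg hσ T))⁻¹ ^ (m + 1 + 1 - g) = Et hσ g m T (tz f J) := rfl
  rw [e7]
  have e8 : Ft hσ m T * (Ft hσ m T)⁻¹ = 1 := mul_inv_cancel _
  calc _ = pull (snd (Over.mk f) J).left (D hσ hf hm J ξ (hasDeg_xi hσ hJ)) * xc ξ * Et hσ g m T (tz f J) *
        (Ft hσ m T * (Ft hσ m T)⁻¹) := by rw [e8, _root_.mul_one]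
    _ = _ := by ac_rfl

end main

section final

/-- Jacobians are unique. -/
theorem exists_iso {J J' : Over S} [GrpObj J] [GrpObj J'] {ξ : Pic (PicF.XT f J)} {ξ' : Pic (PicF.XT f J')}
    (h : IsJac f σ hσ J ξ) (h' : IsJac f σ hσ J' ξ') : Nonempty (J ≅ J') := by
  obtain ⟨a, ha, -⟩ := h'.univ J ξ h.mem h.deg
  obtain ⟨b, hb, -⟩ := h.univ J' ξ' h'.mem h'.deg
  refine ⟨⟨a, b, ?_, ?_⟩⟩
  · obtain ⟨_, _, hu⟩ := h.univ J ξ h.mem h.deg
    have h1 : pull (PicF.XTmap f (a ≫ b)) ξ = ξ := by rw [XTmap_comp, pull_comp, hb, ha]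
    have h2 : pull (PicF.XTmap f (𝟙 J)) ξ = ξ := by rw [XTmap_id, pull_id]
    exact (hu _ h1).trans (hu _ h2).symm
  · obtain ⟨_, _, hu⟩ := h'.univ J' ξ' h'.mem h'.deg
    have h1 : pull (PicF.XTmap f (b ≫ a)) ξ' = ξ' := by rw [XTmap_comp, pull_comp, ha, hb]
    have h2 : pull (PicF.XTmap f (𝟙 J')) ξ' = ξ' := by rw [XTmap_id, pull_id]
    exact (hu _ h1).trans (hu _ h2).symm

theorem isLocallyNoetherian_of_isJac [IsLocallyNoetherian S] (hf : ModFun.IsCurveOfGenus g f) {J : Over S} [GrpObj J]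
    {ξ : Pic (PicF.XT f J)} (h : IsJac f σ hσ J ξ) : IsLocallyNoetherian J.left := by
  obtain ⟨J', _, _, ξ', hJ', h'⟩ := K245.JacSec.exists_jac f hf σ hσ
  obtain ⟨e⟩ := exists_iso hσ h h'
  have h1 := hJ'.smooth
  have h2 : IsLocallyNoetherian J'.left := LocallyOfFiniteType.isLocallyNoetherian J'.hom
  have h3 : IsIso e.hom.left := inferInstance
  exact LocallyOfFiniteType.isLocallyNoetherian e.hom.left

theorem exists_abelS (hf : ModFun.IsCurveOfGenus g f) {J : Over S} [GrpObj J] {ξ : Pic (PicF.XT f J)}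
    (h : IsJac f σ hσ J ξ) : ∃ α : Over.mk f ⟶ J, IsAbelS f σ hσ ξ α := by
  have h1 : Smooth f := hf.1
  have h2 : IsProper f := hf.2.1
  have h3 : GeometricallyIrreducible f := hf.2.2.1
  have h4 : GeometricallyConnected f := K995.CurveBasic.geometricallyConnected f
  obtain ⟨α, hα, -⟩ := h.univ (Over.mk f) (acl f σ hσ (idPt f)) (acl_mem f σ hσ _)
    ((Fga.JacFib.fibStep f _ _).2 fun τ =>
      sub_eq_zero.1 (K247.AbelDeg.degAt_acl f (K245.JacSec.dim_fiber hf) σ hσ (idPt f) τ))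
  refine ⟨α, fun T z => ?_⟩
  rw [XTmap_comp, pull_comp, hα, pull_acl, idPt_comp]

theorem bcMap_eq {J : Over S} (α : Over.mk f ⟶ J) :
    AbDual.bcMap α J = (lift (fst (Over.mk f) J ≫ α) (snd (Over.mk f) J)).left := by
  apply pullback.hom_ext
  · have e1 : (lift (fst (Over.mk f) J ≫ α) (snd (Over.mk f) J)).left ≫ (fst J J).left =
        (fst (Over.mk f) J ≫ α).left := by rw [← Over.comp_left, lift_fst]
    exact (pullback.lift_fst _ _ _).trans e1.symm
  · have e1 : (lift (fst (Over.mk f) J ≫ α) (snd (Over.mk f) J)).left ≫ (snd J J).left =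
        (snd (Over.mk f) J).left := by rw [← Over.comp_left, lift_snd]
    exact ((pullback.lift_snd _ _ _).trans (Category.comp_id _)).trans e1.symm

theorem pull_base {J T : Over S} (w : T ⟶ J) (c : Pic J.left) (N : Pic S) :
    pull w.left (c⁻¹ * pull J.hom N) = (pull w.left c)⁻¹ * pull T.hom N := by
  rw [map_mul, map_inv, ← pull_comp, Over.w]

theorem pull_one_left {J T : Over S} [GrpObj J] (c : Pic J.left) :
    pull (1 : T ⟶ J).left c = pull T.hom (pull (η[J] : 𝟙_ (Over S) ⟶ J).left c) := by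
  have e : (1 : T ⟶ J) = toUnit T ≫ η[J] := Hom.one_def
  have e2 : (toUnit T).left = T.hom := (Category.comp_id _).symm.trans (Over.w (toUnit T))
  rw [e, Over.comp_left, pull_comp, e2]

theorem grp_aux {G : Type*} [CommGroup G] (h x y N ξ B : G) (h1 : h = y * ξ * B) (h2 : B = x * N⁻¹) :
    h⁻¹ * N * (x⁻¹ * N)⁻¹ * (y⁻¹ * N)⁻¹ = ξ⁻¹ := by
  subst h2 h1
  simp only [mul_inv, inv_inv]
  calc y⁻¹ * ξ⁻¹ * (x⁻¹ * N) * N * (x * N⁻¹) * (y * N⁻¹)
      = ξ⁻¹ * (y⁻¹ * y) * (x⁻¹ * x) * (N * N⁻¹) * (N * N⁻¹) := by ac_rfl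
    _ = ξ⁻¹ := by simp

theorem main : Node.{u} := by
  intro S C hS f g hg hf hsm hpr σ hσ J iG iC ξ hJ
  have hJn : IsLocallyNoetherian J.left := isLocallyNoetherian_of_isJac hσ hf hJ
  have hTn : IsLocallyNoetherian (Over.mk f ⊗ J).left := by
    have h1 : LocallyOfFiniteType (pullback.snd f J.hom) := inferInstance
    exact LocallyOfFiniteType.isLocallyNoetherian (pullback.snd f J.hom)
  obtain ⟨α, hα⟩ := exists_abelS hσ hf hJ
  obtain ⟨B, hB⟩ := exists_key hσ hf (le_refl (2 * g)) (by omega) hJ hα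
  generalize D hσ hf _ J ξ (hasDeg_xi hσ hJ) = c at hB
  set N : Pic S := pull (η[J] : 𝟙_ (Over S) ⟶ J).left c with hN
  have hη : (η[J] : 𝟙_ (Over S) ⟶ J).left ≫ J.hom = 𝟙 S := Over.w η[J]
  refine ⟨α, c⁻¹ * pull J.hom N, hα, ?_, ?_⟩
  · rw [pull_base]
    have h2 : pull (𝟙_ (Over S)).hom N = N := pull_id N
    rw [h2, ← hN, inv_mul_cancel]
  · -- restriction to `C × 0`
    have hu := congrArg (pull (lift (𝟙 (Over.mk f)) (1 : Over.mk f ⟶ J)).left) hB
    have e1 : lift (𝟙 (Over.mk f)) (1 : Over.mk f ⟶ J) ≫ ((fst (Over.mk f) J ≫ α) * snd (Over.mk f) J) = α := by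
      rw [MonObj.comp_mul, lift_fst_assoc, lift_snd, Category.id_comp, _root_.mul_one]
    have e2 : pull (lift (𝟙 (Over.mk f)) (1 : Over.mk f ⟶ J)).left (xc ξ) = 1 := by
      let v : (Over.mk f).left ⟶ PicF.XT f (𝟙_ (Over S)) := pullback.lift (𝟙 C) f rfl
      have e3 : (lift (𝟙 (Over.mk f)) (1 : Over.mk f ⟶ J)).left = v ≫ PicF.XTmap f (1 : 𝟙_ (Over S) ⟶ J) := by
        apply pullback.hom_ext
        · have h4 : (lift (𝟙 (Over.mk f)) (1 : Over.mk f ⟶ J)).left ≫ (fst (Over.mk f) J).left = 𝟙 _ := by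
            rw [← Over.comp_left, lift_fst]; rfl
          have h5 : (v ≫ PicF.XTmap f (1 : 𝟙_ (Over S) ⟶ J)) ≫ pullback.fst f J.hom = 𝟙 _ := by
            rw [Category.assoc]
            refine (congrArg (fun w => v ≫ w) (Fga.RigGrp.XTmap_fst f _)).trans ?_
            exact pullback.lift_fst _ _ _
          exact h4.trans h5.symm
        · have h4 : (lift (𝟙 (Over.mk f)) (1 : Over.mk f ⟶ J)).left ≫ (snd (Over.mk f) J).left =
              (1 : Over.mk f ⟶ J).left := by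
            rw [← Over.comp_left, lift_snd]
          have h5 : (v ≫ PicF.XTmap f (1 : 𝟙_ (Over S) ⟶ J)) ≫ PicF.XTproj f J = (1 : Over.mk f ⟶ J).left := by
            rw [Category.assoc, Fga.RigGrp.XTmap_XTproj, ← Category.assoc]
            have h6 : v ≫ PicF.XTproj f (𝟙_ (Over S)) = (toUnit (Over.mk f)).left := by
              have h7 : (toUnit (Over.mk f)).left = f :=
                (Category.comp_id _).symm.trans (Over.w (toUnit (Over.mk f)))
              rw [h7]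
              exact pullback.lift_snd _ _ _
            have h9 : toUnit (Over.mk f) ≫ (1 : 𝟙_ (Over S) ⟶ J) = (1 : Over.mk f ⟶ J) := MonObj.comp_one _
            rw [h6, ← Over.comp_left, h9]
          exact h4.trans h5.symm
      have h8 : xc ξ = ξ := rfl
      rw [e3, h8]
      refine (pull_comp _ _ _).trans ?_
      rw [Sga7.H732.Abel.pull_one hJ, map_one]
    rw [map_mul, map_mul, e2, ← pull_comp, ← pull_comp, ← pull_comp, ← Over.comp_left, ← Over.comp_left,
      ← Over.comp_left, e1, lift_snd, lift_fst, _root_.mul_one, pull_one_left, ← hN] at hu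
    have hu2 : B = pull α.left c * (pull (Over.mk f).hom N)⁻¹ := by
      rw [hu]
      have h3 : pull (𝟙 (Over.mk f) : Over.mk f ⟶ _).left B = B := pull_id B
      rw [h3, mul_comm (pull (Over.mk f).hom N) B, mul_inv_cancel_right]
    rw [bcMap_eq]
    refine (K528.MumZero.pull_lift_mumCl J _ (fst (Over.mk f) J ≫ α) (snd (Over.mk f) J)).trans ?_
    rw [pull_base, pull_base, pull_base]
    refine grp_aux _ _ _ _ (xc ξ) _ hB ?_
    rw [hu2, map_mul, map_inv, ← pull_comp, ← pull_comp, Over.w, ← Over.comp_left]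

end final

end K245.MumMain
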