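import Groth.Agent.AgPol.K245.JacGeom
import Groth.Agent.AgPol.K245.CurveDeg
import Groth.Agent.AbVar.K528.MumZero

/-!
# The Abel map over any base and the interface `NodeMum`

`IsAbelS f σ hσ ξ α` : `α : C ⟶ J` is the Abel map (`α(x) = O(x - σ)`, normalised).
`NodeMum` : on the Jacobian of a family of curves with a section there is a rigidified class `ℓ` with
`(α × 1)^* Mum(ℓ) = ξ⁻¹` on `C × J`.
-/

set_option autoImplicit false
universe u

open CategoryTheory CategoryTheory.Limits AlgebraicGeometry Opposite MonoidalCategory CartesianMonoidalCategory MonObj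

namespace K245.NodeMum

open Groth.Agent Groth.Agent.Grpsch.PicGrp Groth.Agent.Fga.RigGrp Groth.Agent.Fga.JacSum K245.JacSec
  K245.RepSec Groth.Agent.Sga7.H732.Hedge K247.DegFn

variable {C S : Scheme.{u}}

/-- A point of the curve as a morphism over the base. -/
noncomputable def ptHom {f : C ⟶ S} {T : Over S} (z : Pt f T) : T ⟶ Over.mk f := Over.homMk z.1 z.2

/-- The tautological point. -/
noncomputable def idPt (f : C ⟶ S) : Pt f (Over.mk f) := ⟨𝟙 C, Category.id_comp _⟩

theorem idPt_comp {f : C ⟶ S} {T : Over S} (z : Pt f T) : (idPt f).comp (ptHom z) = z :=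
  Subtype.ext (Category.comp_id _)

variable (f : C ⟶ S) [SmoothOfRelativeDimension 1 f] [IsSeparated f] (σ : S ⟶ C) (hσ : σ ≫ f = 𝟙 S)

/-- `α` is the Abel map of `(J, ξ)` with base section `σ`. -/
def IsAbelS {J : Over S} (ξ : Pic (PicF.XT f J)) (α : Over.mk f ⟶ J) : Prop :=
  ∀ (T : Over S) (z : Pt f T), pull (PicF.XTmap f (ptHom z ≫ α)) ξ = acl f σ hσ z

/-- **Node**: on the Jacobian of a curve with a section there is a rigidified class whose Mumford class
restricts to the inverse of the universal class on `C × J`. -/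
def Node : Prop :=
  ∀ (S C : Scheme.{u}) (_ : IsLocallyNoetherian S) (f : C ⟶ S) (g : ℕ), 1 ≤ g → ModFun.IsCurveOfGenus g f →
    ∀ (_ : SmoothOfRelativeDimension 1 f) (_ : IsProper f) (σ : S ⟶ C) (hσ : σ ≫ f = 𝟙 S)
      (J : Over S) (_ : GrpObj J) (_ : IsCommMonObj J) (ξ : Pic (PicF.XT f J)), IsJac f σ hσ J ξ →
      ∃ (α : Over.mk f ⟶ J) (ℓ : Pic J.left), IsAbelS f σ hσ ξ α ∧
        pull (η[J] : 𝟙_ (Over S) ⟶ J).left ℓ = 1 ∧
        pull (AbDual.bcMap α J) (K528.MumZero.mumCl J ℓ) = ξ⁻¹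

end K245.NodeMum
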