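import Groth.Agent.AgPol.K652.QPGen
import Groth.Agent.AbSch.K451.DetPic
import Groth.Agent.Sga67.SymPow
import Groth.Agent.KoszSh.K880.Acyclic

/-!
# The class of the morphism to projective space given by the maximal minors of the values of a frame

`K652.QPGen.gen` with the class: `γ^* O(1)` is the inverse of the pull back of `det π_* L`.
-/

set_option autoImplicit false
universe u

open AlgebraicGeometry CategoryTheory CategoryTheory.Limits TopologicalSpace Matrix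

namespace K245.QPCls

open Groth.Agent.Fdesc.LocGen Groth.Agent.Grpsch.PicGrp K390.PnSec K652.QPRf K652.QPPt K652.QPNodes K652.QPVal
  K652.QPStep K652.QPLin K652.QPChart K652.QPGen Groth.Agent.Ega2.H295.PnCoord

variable {S X W T : Scheme.{u}}

section pts

variable {R : ℕ} {γ : W ⟶ CohB1.ProjSpace R (ULift.{u} ℤ)} {V : W.Opens} {v : Fin (R + 1) → Γ(W, V)}

/-- The pull back of `O(1)`. -/
noncomputable abbrev NN (γ : W ⟶ CohB1.ProjSpace R (ULift.{u} ℤ)) : W.Modules :=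
  (Scheme.Modules.pullback γ).obj (O1 R (ULift.{u} ℤ))

/-- The coordinate sections of the pull back of `O(1)`. -/
noncomputable def xc (γ : W ⟶ CohB1.ProjSpace R (ULift.{u} ℤ)) (V : W.Opens) (l : Fin (R + 1)) : Γ(NN γ, V) :=
  res (NN γ) le_top (tsec γ l)

theorem res_xc {V V' : W.Opens} (h : V' ≤ V) (l : Fin (R + 1)) : res (NN γ) h (xc γ V l) = xc γ V' l :=
  res_res (NN γ) le_top h _

theorem exists_iso_of_isPt (h : IsPt (V.ι ≫ γ) (fun l => rf V.ι (le_preimage_ι V) (v l))) :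
    ∃ e : (Scheme.Modules.pullback V.ι).obj ((Scheme.Modules.pullback γ).obj (O1 R (ULift.{u} ℤ))) ≅
      Coh.structureModule (V : Scheme.{u}), ∀ l, e.hom.app ⊤ (pullTop V.ι (tsec γ l)) =
        ofFun (rf V.ι (le_preimage_ι V) (v l)) :=
  ((GivenBy.refl γ).comp V.ι).exists_iso h

theorem app_injective {M M' : X.Modules} (e : M ≅ M') : Function.Injective (e.hom.app ⊤) := by
  intro s t hst
  have h1 : ∀ m : Γ(M, ⊤), e.inv.app ⊤ (e.hom.app ⊤ m) = m := fun m => congr(($(e.hom_inv_id).app ⊤) m)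
  rw [← h1 s, hst, h1 t]

theorem rel (h : IsPt (V.ι ≫ γ) (fun l => rf V.ι (le_preimage_ι V) (v l))) (k l : Fin (R + 1)) :
    v l • xc γ V k = v k • xc γ V l := by
  obtain ⟨e, he⟩ := exists_iso_of_isPt h
  refine ps_injective V ?_
  change ps V.ι _ _ = ps V.ι _ _
  rw [ps_smul, ps_smul, xc, xc, ps_eq_pullTop_res, ps_eq_pullTop_res]
  refine app_injective e ?_
  have h1 : ∀ (a : Γ((V : Scheme.{u}), ⊤)) (m : Γ((Scheme.Modules.pullback V.ι).obj
      ((Scheme.Modules.pullback γ).obj (O1 R (ULift.{u} ℤ))), ⊤)), e.hom.app ⊤ (a • m) = a • e.hom.app ⊤ m :=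
    fun a m => Scheme.Modules.Hom.app_smul e.hom a m
  refine (h1 _ _).trans (Eq.trans ?_ (h1 _ _).symm)
  rw [he, he, ofFun_eq_smul, ofFun_eq_smul, smul_smul, smul_smul, mul_comm]

theorem basicOpen_le_genLocus (h : IsPt (V.ι ≫ γ) (fun l => rf V.ι (le_preimage_ι V) (v l))) (l : Fin (R + 1)) :
    W.basicOpen (v l) ≤ CohB1.genLocus _ (homOf (tsec γ l)) := by
  obtain ⟨e, he⟩ := exists_iso_of_isPt h
  have h1 := genLocus_app e (pullTop V.ι (tsec γ l))
  rw [he, genLocus_ofFun, basicOpen_rf,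
    genLocus_pullTop V.ι (isInvertible_pullback γ (isInvertible_O1 R (ULift.{u} ℤ)))] at h1
  intro x hx
  have h2 : (⟨x, W.basicOpen_le (v l) hx⟩ : V) ∈ V.ι ⁻¹ᵁ (W.basicOpen (v l)) := hx
  rw [h1] at h2
  exact h2

/-- The local generator of the pull back of `O(1)`. -/
theorem exists_delta (h : IsPt (V.ι ≫ γ) (fun l => rf V.ι (le_preimage_ι V) (v l))) (l : Fin (R + 1)) :
    ∃ δ : Γ(NN γ, W.basicOpen (v l)), IsGen δ ∧
      ∀ k, xc γ (W.basicOpen (v l)) k = ores (W.basicOpen_le (v l)) (v k) • δ := by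
  have h1 : IsGen (xc γ (W.basicOpen (v l)) l) := by
    have h2 := (le_genLocus_iff _ _).1 (basicOpen_le_genLocus h l)
    rwa [sec_homOf] at h2
  have h2 : IsUnit (ores (W.basicOpen_le (v l)) (v l)) := RingedSpace.isUnit_res_basicOpen _ (v l)
  refine ⟨(↑h2.unit⁻¹ : Γ(W, W.basicOpen (v l))) • xc γ _ l, h1.unit_smul (Units.isUnit _), fun k => ?_⟩
  have h3 := congrArg (res (NN γ) (W.basicOpen_le (v l))) (rel h k l)
  rw [res_smul, res_smul, res_xc, res_xc] at h3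
  rw [smul_smul, mul_comm, mul_smul, ← h3, smul_smul, h2.val_inv_mul, one_smul]

end pts

section basis

variable {π : X ⟶ S} {L : X.Modules}

/-- A frame over an affine open is a basis of the direct image. -/
theorem exists_basis {U : S.Opens} (hU : IsAffineOpen U) {h : ℕ} {e : Fin h → Γ(L, π ⁻¹ᵁ U)}
    (he : Frame π L U e) : ∃ b : Module.Basis (Fin h) Γ(S, U) Γ((Scheme.Modules.pushforward π).obj L, U),
      ∀ l, b l = (e l : Γ(L, π ⁻¹ᵁ U)) := by
  let e' : Fin h → Γ((Scheme.Modules.pushforward π).obj L, U) := e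
  have h1 : ∀ c : Fin h → Γ(S, U), ∑ l, c l • e' l = (∑ l, (π.app U (c l)) • e l : Γ(L, π ⁻¹ᵁ U)) := fun c => rfl
  have hli : LinearIndependent Γ(S, U) e' := by
    rw [Fintype.linearIndependent_iff]
    intro c hc
    have h2 : c = 0 := coords_ext he hU (by
      refine (h1 c).symm.trans (hc.trans ?_)
      simp only [Pi.zero_apply, map_zero, zero_smul, Finset.sum_const_zero]
      rfl)
    intro i
    rw [h2]
    rfl
  have hsp : ⊤ ≤ Submodule.span Γ(S, U) (Set.range e') := by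
    intro s _
    obtain ⟨c, hc⟩ := he.exists_coords hU (s : Γ(L, π ⁻¹ᵁ U))
    rw [Submodule.mem_span_range_iff_exists_fun]
    exact ⟨c, hc.symm⟩
  refine ⟨Module.Basis.mk hli hsp, fun l => ?_⟩
  rw [Module.Basis.mk_apply]

theorem isLocBasis_of_frame (hE : Coh.IsQCoh ((Scheme.Modules.pushforward π).obj L)) {U : S.Opens}
    (hU : IsAffineOpen U) {h : ℕ} {e : Fin h → Γ(L, π ⁻¹ᵁ U)} (he : Frame π L U e) :
    Groth.Agent.Sga67.LocBasis.IsLocBasis (M := (Scheme.Modules.pushforward π).obj L) (U := U)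
      (fun l => (show Groth.Agent.Sga67.Sec.Sec ((Scheme.Modules.pushforward π).obj L) U from e l)) := by
  obtain ⟨b, hb⟩ := exists_basis hU he
  have h1 := K880.Acyclic.isLocBasis_of_isQCoh hE hU b
  have h2 : (fun l => (show Groth.Agent.Sga67.Sec.Sec ((Scheme.Modules.pushforward π).obj L) U from b l)) =
      fun l => (show Groth.Agent.Sga67.Sec.Sec ((Scheme.Modules.pushforward π).obj L) U from e l) :=
    funext fun l => hb l
  rwa [h2] at h1

open Groth.Agent.Sga67.ExtSheaf Groth.Agent.Dual.H376 in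
/-- The generator of the determinant of the direct image given by a family of sections. -/
noncomputable def dg {r : ℕ} {D : S.Modules} (φ : Phi r ((Scheme.Modules.pushforward π).obj L) D)
    {U : S.affineOpens} {n : ℕ} (hn : n = r) (e : Fin n → Γ(L, π ⁻¹ᵁ U.1)) : Γ(D, U.1) :=
  DetSec.gen φ (fun l => (show Groth.Agent.Sga67.Sec.Sec ((Scheme.Modules.pushforward π).obj L) U.1 from
    e (Fin.cast hn.symm l)))

open Groth.Agent.Sga67.ExtSheaf Groth.Agent.Dual.H376 in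
theorem isGen_dg {r : ℕ} {D : S.Modules} (φ : Phi r ((Scheme.Modules.pushforward π).obj L) D) (hφ : PhiComp φ)
    (hE : Coh.IsQCoh ((Scheme.Modules.pushforward π).obj L)) {U : S.affineOpens} {n : ℕ} (hn : n = r)
    {e : Fin n → Γ(L, π ⁻¹ᵁ U.1)} (he : Frame π L U.1 e) : IsGen (dg φ hn e) := by
  subst hn
  exact DetSec.isGen_gen φ hφ (isLocBasis_of_frame hE U.2 he)

variable {J : Type} {p : W ⟶ S} {z : J → (W ⟶ X)} {hz : ∀ a, z a ≫ π = p}
  {ε : ∀ a, Γ((Scheme.Modules.pullback (z a)).obj L, ⊤)}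

open Groth.Agent.Sga67.ExtSheaf Groth.Agent.Dual.H376 in
/-- Change of frame. -/
theorem change (hε : ∀ a, IsGen (ε a)) {r : ℕ} {D : S.Modules}
    (φ : Phi r ((Scheme.Modules.pushforward π).obj L) D) (hφ : PhiComp φ) {U U' : S.affineOpens} {V : S.Opens}
    {n n' : ℕ} (hn : n = r) (hn' : n' = r) {e : Fin n → Γ(L, π ⁻¹ᵁ U.1)} {e' : Fin n' → Γ(L, π ⁻¹ᵁ U'.1)}
    (he : Frame π L U.1 e) (he' : Frame π L U'.1 e') {A : Matrix J (Fin n) Γ(W, p ⁻¹ᵁ U.1)}
    {A' : Matrix J (Fin n') Γ(W, p ⁻¹ᵁ U'.1)} (hA : IsVal hz ε U.1 e A) (hA' : IsVal hz ε U'.1 e' A')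
    (hU : V ≤ U.1) (hU' : V ≤ U'.1) (hV : IsAffineOpen V) (B : ℕ) :
    ∃ c : Γ(S, V), (∀ κ : Idx J B, ores (p.preimage_mono hU') (pv B A' κ) =
      p.app V c * ores (p.preimage_mono hU) (pv B A κ)) ∧ res D hU' (dg φ hn' e') = c • res D hU (dg φ hn e) := by
  subst hn
  subst hn'
  obtain ⟨g, g', h1, h2, h3⟩ := exists_transition (he.res hU) (he'.res hU') hV
  have h4 := (hA.res hU).comb g h3
  have h5 := h4.uniq hε (hA'.res hU')
  refine ⟨g.det, fun κ => ?_, ?_⟩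
  · rw [← map_pv, ← map_pv, ← h5, pv_mul]
    congr 1
    exact ((p.app V).hom.map_det g).symm
  · have h6 := DetSec.res_gen φ hφ (U := U') (V := ⟨V, hV⟩) hU'
      (fun l => (show Groth.Agent.Sga67.Sec.Sec ((Scheme.Modules.pushforward π).obj L) U'.1 from e' l))
    have h7 := DetSec.gen_change φ hφ (U := U) (V := ⟨V, hV⟩) hU
      (fun l => (show Groth.Agent.Sga67.Sec.Sec ((Scheme.Modules.pushforward π).obj L) U.1 from e l))
      (fun l => Groth.Agent.Sga67.Sec.res _ hU'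
        (show Groth.Agent.Sga67.Sec.Sec ((Scheme.Modules.pushforward π).obj L) U'.1 from e' l)) g.transpose
      (fun k => h3 k)
    rw [Matrix.det_transpose] at h7
    exact h6.trans h7

open Groth.Agent.Sga67.ExtSheaf Groth.Agent.Dual.H376 K451.Coc in
/-- **The class of the morphism given by the maximal minors.** -/
theorem cls {ι : Type*} (hε : ∀ a, IsGen (ε a)) {r : ℕ} {D : S.Modules}
    (hE : Coh.IsQCoh ((Scheme.Modules.pushforward π).obj L))
    (hD : ExtPow.IsExtPow r ((Scheme.Modules.pushforward π).obj L) D) (hDi : PicF.IsInvertible D)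
    (U : ι → S.affineOpens) (hUc : ∀ x : S, ∃ i, x ∈ (U i).1) {n : ι → ℕ} (hn : ∀ i, n i = r)
    {e : ∀ i, Fin (n i) → Γ(L, π ⁻¹ᵁ (U i).1)} (he : ∀ i, Frame π L (U i).1 (e i))
    {A : ∀ i, Matrix J (Fin (n i)) Γ(W, p ⁻¹ᵁ (U i).1)} (hA : ∀ i, IsVal hz ε (U i).1 (e i) (A i))
    {B R : ℕ} (eqv : Idx J B ≃ Fin (R + 1)) (γ : W ⟶ CohB1.ProjSpace R (ULift.{u} ℤ))
    (hγ : ∀ i, IsPt ((p ⁻¹ᵁ (U i).1).ι ≫ γ) (fun l => rf _ (le_preimage_ι _) (pv B (A i) (eqv.symm l)))) :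
    pull γ (K117.Ag.o1 R) * pull p (mk D hDi) = 1 := by
  obtain ⟨φ, hφ⟩ := exists_phi hD
  -- the index set
  have h0 : ∀ x : W, ∃ (i : ι) (l : Fin (R + 1)), x ∈ W.basicOpen (pv B (A i) (eqv.symm l)) := by
    intro x
    obtain ⟨i, hi⟩ := hUc (p x)
    have h1 := (hγ i).iSup
    have h2 : ∀ y : ((p ⁻¹ᵁ (U i).1 : W.Opens) : Scheme.{u}), ∃ l, y ∈ (p ⁻¹ᵁ (U i).1).ι ⁻¹ᵁ
        (W.basicOpen (pv B (A i) (eqv.symm l))) := by
      intro y
      have h3 : y ∈ (⊤ : (p ⁻¹ᵁ (U i).1 : Scheme.{u}).Opens) := trivial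
      rw [← h1, Opens.mem_iSup] at h3
      obtain ⟨l, hl⟩ := h3
      rw [basicOpen_rf] at hl
      exact ⟨l, hl⟩
    obtain ⟨l, hl⟩ := h2 ⟨x, hi⟩
    exact ⟨i, l, hl⟩
  choose i l hx using h0
  choose δ hδ hδ' using fun x => exists_delta (hγ (i x)) (l x)
  have hNi : PicF.IsInvertible (NN γ) := isInvertible_pullback γ (isInvertible_O1 R (ULift.{u} ℤ))
  have hPi : PicF.IsInvertible ((Scheme.Modules.pullback p).obj D) := isInvertible_pullback p hDi
  have hle : ∀ x, W.basicOpen (pv B (A (i x)) (eqv.symm (l x))) ≤ p ⁻¹ᵁ (U (i x)).1 := fun x => W.basicOpen_le _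
  let d : ∀ x, Γ((Scheme.Modules.pullback p).obj D, W.basicOpen (pv B (A (i x)) (eqv.symm (l x)))) := fun x =>
    res _ (hle x) (pullSec p (dg φ (hn (i x)) (e (i x))))
  have hd : ∀ x, IsGen (d x) := fun x => ((isGen_dg φ hφ hE (hn (i x)) (he (i x))).pullSec p).res (hle x)
  -- local comparison
  have key : ∀ (x y t : W), t ∈ W.basicOpen (pv B (A (i x)) (eqv.symm (l x))) →
      t ∈ W.basicOpen (pv B (A (i y)) (eqv.symm (l y))) →
      ∃ (V : W.Opens) (hi : V ≤ W.basicOpen (pv B (A (i x)) (eqv.symm (l x))))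
        (hj : V ≤ W.basicOpen (pv B (A (i y)) (eqv.symm (l y)))) (c : Γ(W, V)), t ∈ V ∧
        res _ hi (δ x) = c • res _ hj (δ y) ∧ res _ hj (d y) = c • res _ hi (d x) := by
    intro x y t htx hty
    obtain ⟨_, ⟨V', hV', rfl⟩, htV', hle'⟩ := S.isBasis_affineOpens.exists_subset_of_mem_open
      (show p t ∈ (((U (i x)).1 ⊓ (U (i y)).1 : S.Opens) : Set S) from ⟨hle x htx, hle y hty⟩)
      ((U (i x)).1 ⊓ (U (i y)).1).isOpen
    have hle1 : V' ≤ (U (i x)).1 ⊓ (U (i y)).1 := hle'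
    obtain ⟨c, hc1, hc2⟩ := change (p := p) hε φ hφ (hn (i x)) (hn (i y)) (he (i x)) (he (i y)) (hA (i x)) (hA (i y))
      (hle1.trans inf_le_left) (hle1.trans inf_le_right) hV' B
    let V : W.Opens := W.basicOpen (pv B (A (i x)) (eqv.symm (l x))) ⊓
      W.basicOpen (pv B (A (i y)) (eqv.symm (l y))) ⊓ p ⁻¹ᵁ V'
    have hVx : V ≤ W.basicOpen (pv B (A (i x)) (eqv.symm (l x))) := inf_le_left.trans inf_le_left
    have hVy : V ≤ W.basicOpen (pv B (A (i y)) (eqv.symm (l y))) := inf_le_left.trans inf_le_right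
    have hVp : V ≤ p ⁻¹ᵁ V' := inf_le_right
    refine ⟨V, hVx, hVy, ores hVp (p.app V' c), ⟨⟨htx, hty⟩, htV'⟩, ?_, ?_⟩
    · have e1 := congrArg (res (NN γ) hVx) (hδ' x (l x))
      have e2 := congrArg (res (NN γ) hVy) (hδ' y (l x))
      rw [res_xc, res_smul, ores_ores] at e1 e2
      have e3 := congrArg (ores hVp) (hc1 (eqv.symm (l x)))
      rw [map_mul, ores_ores, ores_ores] at e3
      have e4 : IsUnit (ores (hVx.trans (hle x)) (pv B (A (i x)) (eqv.symm (l x)))) := by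
        rw [← ores_ores (W.basicOpen_le _) hVx]
        exact (RingedSpace.isUnit_res_basicOpen _ (pv B (A (i x)) (eqv.symm (l x)))).map (ores hVx)
      refine e4.smul_left_cancel.1 ?_
      rw [← e1, e2, smul_smul]
      congr 1
      rw [mul_comm]
      exact e3
    · have e1 := congrArg (fun s => res _ hVp (pullSec p s)) hc2
      simp only [pullSec_smul, ← res_pullSec, res_smul, res_res] at e1
      change res _ hVy (res _ (hle y) (pullSec p (dg φ (hn (i y)) (e (i y))))) = _ • res _ hVx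
        (res _ (hle x) (pullSec p (dg φ (hn (i x)) (e (i x)))))
      rw [res_res, res_res]
      exact e1
  rw [K117.Ag.o1, pull_mk _ (isInvertible_O1 R (ULift.{u} ℤ)), pull_mk, mk_mul_mk, mk_eq_one_iff]
  refine Groth.Agent.Dual.H376.GlueGen.nonempty_iso_of_gens
    (fun x => W.basicOpen (pv B (A (i x)) (eqv.symm (l x)))) (fun x => ⟨x, hx x⟩) _ _
    (fun x => Groth.Agent.Sga67.Sec.tau _ _ _ (TensorProduct.tmul _ (δ x) (d x))) (fun x => one _)
    (fun x => isGen_tau (hδ x) (hd x)) (fun x => Groth.Agent.Fdesc.LocGen.isGen_one _) fun x y t htx hty => ?_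
  obtain ⟨V, hi, hj, c, htV, h1, h2⟩ := key x y t htx hty
  refine ⟨V, hi, hj, 1, htV, ?_, ?_⟩
  · rw [one_smul]
    refine (Groth.Agent.Sga67.Sec.tau_tres _ _ hi _).symm.trans ?_
    refine Eq.trans ?_ (Groth.Agent.Sga67.Sec.tau_tres _ _ hj _)
    rw [Groth.Agent.Sga67.Sec.tres_tmul, Groth.Agent.Sga67.Sec.tres_tmul]
    refine congrArg (Groth.Agent.Sga67.Sec.tau _ _ _) ?_
    have e1 : Groth.Agent.Sga67.Sec.res _ hi (δ x) = c • Groth.Agent.Sga67.Sec.res _ hj (δ y) := h1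
    have e2 : Groth.Agent.Sga67.Sec.res _ hj (d y) = c • Groth.Agent.Sga67.Sec.res _ hi (d x) := h2
    rw [e1, e2, TensorProduct.smul_tmul]
  · exact (Groth.Agent.Fdesc.LocGen.res_one hi).trans
      ((Groth.Agent.Fdesc.LocGen.res_one hj).symm.trans (one_smul _ _).symm)

end basis

theorem HasChart.res {π : X ⟶ S} {L : X.Modules} {D B : ℕ} {U : S.Opens} {m : ℕ}
    {e : Fin (m + 1) → Γ(L, π ⁻¹ᵁ U)} (h : HasChart π L D B U e) {V : S.Opens} (hVU : V ≤ U) :
    HasChart π L D B V (fun l => Groth.Agent.Fdesc.LocGen.res L (π.preimage_mono hVU) (e l)) := by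
  refine ⟨h.1, Frame.res h.2.1 hVU, fun Ω _ _ t ht hf => ?_⟩
  obtain ⟨r, hr, h2⟩ := h.2.2 Ω t (ht.trans (t.preimage_mono hVU))
    (hf.trans ((pullback.fst π t).preimage_mono (π.preimage_mono hVU)))
  refine ⟨r, ?_, h2⟩
  have h3 : (fun l => ps (pullback.fst π t) (Groth.Agent.Fdesc.LocGen.res L (π.preimage_mono hVU) (e l)) hf) =
      fun l => ps (pullback.fst π t) (e l)
        (hf.trans ((pullback.fst π t).preimage_mono (π.preimage_mono hVU))) :=
    funext fun l => ps_res _ _ _ hf (e l)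
  rw [h3]
  exact hr

section gen

variable {π : X ⟶ S} {L : X.Modules} {hL : PicF.IsInvertible L} {J : Type} {p : W ⟶ S} {z : J → (W ⟶ X)}
  {hz : ∀ a, z a ≫ π = p}

/-- **The morphism to projective space separating the fibres, and its class.** -/
theorem gen [Finite J] (hfib : FibStmt.{u}) (hlin : LinStmt.{u}) (hzL : ∀ a, pull (z a) (mk L hL) = 1) {D B : ℕ}
    (h1 : Sep π L hL z hz 1) (hD : Sep π L hL z hz D)
    (hred : ∀ (Ω : Type u) [Field Ω] [IsAlgClosed Ω] (t : Spec (CommRingCat.of Ω) ⟶ S), IsReduced (pullback π t))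
    (hch : ∀ s : S, ∃ (U : S.Opens) (m : ℕ) (e : Fin (m + 1) → Γ(L, π ⁻¹ᵁ U)), s ∈ U ∧ HasChart π L D B U e)
    {r : ℕ} (hE : FlatMod.IsFinLocFreeOfRank r ((Scheme.Modules.pushforward π).obj L)) {E' : S.Modules}
    (hE' : ExtPow.IsExtPow r ((Scheme.Modules.pushforward π).obj L) E') (hE'i : PicF.IsInvertible E') :
    ∃ (R : ℕ) (γ : W ⟶ CohB1.ProjSpace R (ULift.{u} ℤ)), (∀ (Ω : Type u) [Field Ω] [IsAlgClosed Ω]
      (w w' : Spec (CommRingCat.of Ω) ⟶ W), w ≫ γ = w' ≫ γ →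
      ∃ θ : pullback π (w ≫ p) ≅ pullback π (w' ≫ p), θ.hom ≫ pullback.snd π (w' ≫ p) = pullback.snd π (w ≫ p) ∧
        (∀ a, xp π w (z a) (hz a) ≫ θ.hom = xp π w' (z a) (hz a)) ∧
        pull θ.hom (pull (pullback.fst π (w' ≫ p)) (mk L hL)) = pull (pullback.fst π (w ≫ p)) (mk L hL)) ∧
      pull γ (K117.Ag.o1 R) * pull p (mk E' hE'i) = 1 := by
  choose ε hε using fun a => exists_gen (z a) hL (hzL a)
  have hch' : ∀ s : S, ∃ (U : S.affineOpens) (m : ℕ) (e : Fin (m + 1) → Γ(L, π ⁻¹ᵁ U.1)), s ∈ U.1 ∧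
      HasChart π L D B U.1 e := by
    intro s
    obtain ⟨U, m, e, hs, he⟩ := hch s
    obtain ⟨_, ⟨V, hV, rfl⟩, hsV, hle⟩ := S.isBasis_affineOpens.exists_subset_of_mem_open
      (show s ∈ (U : Set S) from hs) U.isOpen
    exact ⟨⟨V, hV⟩, m, _, hsV, HasChart.res he hle⟩
  choose U m e hU he using hch'
  choose A hA using fun s => exists_isVal (hz := hz) hε (U s).1 (e s)
  have := Fintype.ofFinite J
  -- the index set
  obtain ⟨R, ⟨eqv⟩⟩ : ∃ R : ℕ, Nonempty (Idx J B ≃ Fin (R + 1)) := by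
    have h2 : 0 < Fintype.card (Idx J B) := Fintype.card_pos_iff.2 ⟨⟨0, Fin.elim0⟩⟩
    refine ⟨Fintype.card (Idx J B) - 1, ⟨(Fintype.equivFin _).trans (finCongr ?_)⟩⟩
    omega
  let V : S → W.Opens := fun s => p ⁻¹ᵁ (U s).1
  let v : ∀ s : S, Fin (R + 1) → Γ(W, V s) := fun s l => pv B (A s) (eqv.symm l)
  have hmap : ∀ (s : S) {T : Scheme.{u}} (w : T ⟶ W) (hw : ⊤ ≤ w ⁻¹ᵁ V s) (κ : Idx J B),
      rf w hw (v s (eqv κ)) = pv B ((A s).map (rf w hw)) κ := by
    intro s T w hw κ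
    rw [map_pv]
    change rf w hw (pv B (A s) (eqv.symm (eqv κ))) = _
    rw [Equiv.symm_apply_apply]
  have hgen : ∀ s : S, ∀ x ∈ V s, ∃ l, x ∈ W.basicOpen (v s l) := by
    intro s x hx
    let Ω := AlgebraicClosure (W.residueField x)
    let w : Spec (CommRingCat.of Ω) ⟶ W :=
      Spec.map (CommRingCat.ofHom (algebraMap (W.residueField x) Ω)) ≫ W.fromSpecResidueField x
    have hwx : ∀ y, w y = x := by
      intro y
      change (W.fromSpecResidueField x) _ = x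
      exact W.fromSpecResidueField_apply x _
    have hw : ⊤ ≤ w ⁻¹ᵁ V s := fun y _ => by
      change w y ∈ V s
      rw [hwx]
      exact hx
    obtain ⟨κ, hκ⟩ := exists_minor hε h1 (he s).2.1 (hA s) Ω w hw
    refine ⟨eqv ⟨⟨m s + 1, (he s).1⟩, κ⟩, ?_⟩
    have h3 : IsUnit (rf w hw (v s (eqv ⟨⟨m s + 1, (he s).1⟩, κ⟩))) := by
      rw [hmap s w hw, pv_self (he s).1]
      exact hκ
    have h4 := (Spec (CommRingCat.of Ω)).basicOpen_of_isUnit h3
    rw [basicOpen_rf] at h4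
    obtain ⟨y⟩ : Nonempty (Spec (CommRingCat.of Ω)) := inferInstance
    have h5 : y ∈ w ⁻¹ᵁ (W.basicOpen (v s (eqv ⟨⟨m s + 1, (he s).1⟩, κ⟩))) := by
      rw [h4]
      trivial
    have h6 : w y ∈ W.basicOpen (v s (eqv ⟨⟨m s + 1, (he s).1⟩, κ⟩)) := h5
    rwa [hwx] at h6
  have hov : ∀ s s' : S, ∀ x, x ∈ V s → x ∈ V s' → ∃ (V' : W.Opens) (hi : V' ≤ V s) (hj : V' ≤ V s'), x ∈ V' ∧
      ∃ c : Γ(W, V'), IsUnit c ∧ ∀ l, ores hj (v s' l) = c * ores hi (v s l) := by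
    intro s s' x hx hx'
    obtain ⟨_, ⟨V', hV', rfl⟩, hxV', hle⟩ := S.isBasis_affineOpens.exists_subset_of_mem_open
      (show p x ∈ (((U s).1 ⊓ (U s').1 : S.Opens) : Set S) from ⟨hx, hx'⟩) ((U s).1 ⊓ (U s').1).isOpen
    have hle' : V' ≤ (U s).1 ⊓ (U s').1 := hle
    obtain ⟨c, hc, hcv⟩ := overlap hε (he s).2.1 (he s').2.1 (hA s) (hA s') (hle'.trans inf_le_left)
      (hle'.trans inf_le_right) hV' ⟨_, hxV'⟩ B
    exact ⟨p ⁻¹ᵁ V', p.preimage_mono (hle'.trans inf_le_left), p.preimage_mono (hle'.trans inf_le_right), hxV', c,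
      hc, fun l => hcv _⟩
  obtain ⟨γ, hγ⟩ := exists_glue V (fun x => ⟨p x, hU (p x)⟩) v hgen hov
  refine ⟨R, γ, fun Ω _ _ w w' hww => ?_, ?_⟩
  · -- the charts at the two points
    obtain ⟨y⟩ : Nonempty (Spec (CommRingCat.of Ω)) := inferInstance
    have hall : ∀ (v : Spec (CommRingCat.of Ω) ⟶ W), ⊤ ≤ v ⁻¹ᵁ V (p (v y)) := by
      intro v y' _
      obtain rfl : y' = y := Subsingleton.elim _ _
      exact hU (p (v y'))
    have hw := hall w
    have hw' := hall w'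
    have h2 := hγ (p (w y)) w hw
    have h3 := hγ (p (w' y)) w' hw'
    rw [← hww] at h3
    obtain ⟨c, hc, hcv⟩ := h2.exists_unit h3
    have hnt : Nontrivial Γ(Spec (CommRingCat.of Ω), ⊤) := (isField_Γ Ω).nontrivial
    obtain ⟨e0, g, g', hg, hg', hAg⟩ := exists_eq_mul_of_pv B (he (p (w y))).1 ((A (p (w y))).map (rf w hw))
      ((A (p (w' y))).map (rf w' hw')) (exists_minor hε h1 (he (p (w y))).2.1 (hA (p (w y))) Ω w hw) c hc fun κ => by
        have h4 := hcv (eqv κ)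
        rw [hmap _ w hw, hmap _ w' hw'] at h4
        exact h4
    exact compare hfib hlin hε hD hred (he (p (w y))) (he (p (w' y))) (hA _) (hA _) Ω w w' hw hw' e0 g g' hg hg' hAg
  · have hqc := K451.DetPic.isQCoh_of_rank hE
    refine cls hε hqc hE' hE'i U (fun x => ⟨x, hU x⟩) (n := fun s => m s + 1) (fun s => ?_)
      (fun s => (he s).2.1) hA eqv γ fun s => hγ s _ (le_preimage_ι _)
    obtain ⟨V', -, b, hsV, hb⟩ := K451.DetMat.exists_affine_basis hE (U := ⊤) (x := s) trivial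
    exact Groth.Agent.Sga67.SymPow.card_eq_of_isLocBasis (isLocBasis_of_frame hqc (U s).2 (he s).2.1) hb s (hU s) hsV

end gen

end K245.QPCls
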