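import Groth.Agent.AgPol.K245.GlueRig
import Groth.Agent.Sga7.H780.RigPicSh
import Groth.Agent.S3226
import Groth.Agent.S12415
import Groth.Agent.S12407
import Groth.Agent.PicF.K247.GrpZero

/-!
# The Jacobian of a smooth proper relative curve with a section over a locally Noetherian base

* `exists_isUniv`: the rigidified Picard functor is representable;
* `isRelPicK`, `phi_toCl`: a universal rigidified class represents the fppf sheafified Picard functor;
* `zeroOpen`, `UnivZero`: the open and closed subscheme of classes of degree zero.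
-/

set_option autoImplicit false
universe u

open CategoryTheory CategoryTheory.Limits AlgebraicGeometry Opposite MonoidalCategory CartesianMonoidalCategory MonObj

namespace K245.RepSec

open Groth.Agent Groth.Agent.Grpsch.PicGrp Groth.Agent.Fga.RigGrp K245.LocProj K245.GlueRig K732.Cov K530.PicZero
  K247.DegFn

variable {C S : Scheme.{u}}

section exist

/-- **The rigidified Picard functor of a smooth proper relative curve with a section is representable.** -/
theorem exists_isUniv [IsLocallyNoetherian S] (f : C ⟶ S) [IsProper f] [Smooth f] [GeometricallyConnected f]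
    (hdim : ∀ s : S, topologicalKrullDim ↥(f.fiber s) = 1) (σ : S ⟶ C) (hσ : σ ≫ f = 𝟙 S) :
    ∃ (P : Over S) (ξ : Pic (PicF.XT f P)), IsUniv f σ hσ P ξ ∧ LocallyOfFiniteType P.hom := by
  choose S' b hb hs hA n i hi hif using exists_chart f hdim σ hσ
  have key : ∀ s : S, ∃ (P : Over (S' s)) (ξ : Pic (PicF.XT (pullback.snd f (b s)) P)),
      IsUniv (pullback.snd f (b s)) (secb f σ hσ (b s)) (secb_snd f σ hσ (b s)) P ξ ∧
        LocallyOfFiniteType P.hom := by
    intro s
    have hN : IsLocallyNoetherian (S' s) := isLocallyNoetherian_of_isOpenImmersion (b s)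
    have hgi : GeometricallyIntegral (pullback.snd f (b s)) := K247.SmoothGI.geometricallyIntegral _
    have hF : ∀ T : Over (S' s), Function.Bijective (PicF.XTproj (pullback.snd f (b s)) T).appTop :=
      fun T => K247.GrpZero.bij T ⊤
    have hflat : Flat (i s ≫ CohB1.ProjSpaceOver.toBase (n s) (S' s)) := by rw [hif]; infer_instance
    have hcl := hi s
    obtain ⟨P, hP, -, hlft⟩ := S3226.result (S' s) _ (n s) (i s) (fun Ω _ _ t => by
      rw [hif]
      exact GeometricallyIntegral.geometrically_isIntegral _ _ _ (IsPullback.of_hasPullback _ t))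
    rw [hif] at hP
    obtain ⟨ξ, hξ⟩ := Sga7.H780.RigPicSh.exists_isUniv (secb_snd f σ hσ (b s)) hF hP
    exact ⟨P, ξ, hξ, hlft⟩
  choose P ξ h hlft using key
  obtain ⟨H, Z, hZ, j, hj, hcov⟩ := exists_glue b (fun s => ⟨s, hs s⟩) h
    (fun T => K247.GrpZero.bij T ⊤)
  refine ⟨H, Z, hZ, ?_⟩
  let 𝒰 : Scheme.OpenCover.{u} H.left :=
    { I₀ := S
      X := fun s => ((Over.map (b s)).obj (P s)).left
      f := fun s => (j s).left
      mem₀ := by
        rw [Scheme.presieve₀_mem_precoverage_iff]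
        exact ⟨fun y => hcov y, hj⟩ }
  refine (IsZariskiLocalAtSource.iff_of_openCover (P := @LocallyOfFiniteType) 𝒰).2 fun s => ?_
  change LocallyOfFiniteType ((j s).left ≫ H.hom)
  rw [Over.w (j s)]
  have := hlft s
  change LocallyOfFiniteType ((P s).hom ≫ b s)
  infer_instance

end exist

section relpic

variable {f : C ⟶ S} {σ : S ⟶ C} {hσ : σ ≫ f = 𝟙 S} {P : Over S} {ξ : Pic (PicF.XT f P)} (h : IsUniv f σ hσ P ξ)

open Classical in
/-- The morphism attached to a class of modules by a universal rigidified class. -/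
noncomputable def phi (T : Over S) (c : PicF.Cl (PicF.XT f T)) : T ⟶ P :=
  if hc : PicF.IsInvertibleCl c then h.hom (norm f σ hσ T (exists_toCl hc).choose) (norm_mem _ _ _ _ _)
  else h.hom 1 (one_mem _)

theorem phi_toCl (T : Over S) (c : Pic (PicF.XT f T)) :
    phi h T (toCl c) = h.hom (norm f σ hσ T c) (norm_mem _ _ _ _ _) := by
  have h1 : PicF.IsInvertibleCl (toCl c) := isInvertibleCl_toCl c
  rw [phi, dif_pos h1]
  have h2 : (exists_toCl h1).choose = c := toCl_injective (exists_toCl h1).choose_spec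
  congr 2

theorem pull_phi (T : Over S) (c : Pic (PicF.XT f T)) :
    pull (PicF.XTmap f (phi h T (toCl c))) ξ = norm f σ hσ T c := by
  rw [phi_toCl, h.pull_hom]

theorem phi_natural {T T' : Over S} (g : T' ⟶ T) (c : Pic (PicF.XT f T)) :
    phi h T' (toCl (pull (PicF.XTmap f g) c)) = g ≫ phi h T (toCl c) := by
  apply h.hom_ext
  rw [XTmap_comp, pull_comp, pull_phi, pull_phi, pull_norm]

theorem phi_pull (T : Over S) (g : T ⟶ P) : phi h T (toCl (pull (PicF.XTmap f g) ξ)) = g := by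
  apply h.hom_ext
  rw [pull_phi, norm_of_mem _ _ _ (pull_mem g h.1)]

/-- Classes with the same normalisation agree Zariski locally on the base. -/
theorem exists_cov_of_norm_eq {T : Over S} {c c' : Pic (PicF.XT f T)} (e : norm f σ hσ T c = norm f σ hσ T c') :
    ∃ 𝒰 : FCov T, ∀ i, pull (PicF.XTmap f (𝒰.j i)) c = pull (PicF.XTmap f (𝒰.j i)) c' := by
  choose U hU hn using fun t ↦ Groth.Agent.Picfga.PicBridge.exists_open_pull_eq_one
    (pull (PicF.secT f σ hσ T) c / pull (PicF.secT f σ hσ T) c') t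
  refine ⟨zar U hU, fun i => ?_⟩
  have h1 : c / c' = pull (PicF.XTproj f T) (pull (PicF.secT f σ hσ T) c / pull (PicF.secT f σ hσ T) c') := by
    rw [norm_apply, norm_apply, div_eq_div_iff_div_eq_div] at e
    rw [map_div]
    exact e
  have h2 : pull (PicF.XTmap f ((zar U hU).j i)) (c / c') = 1 := by
    rw [h1, ← pull_comp, XTmap_XTproj, pull_comp]
    have h3 : pull ((zar U hU).j i).left
        (pull (PicF.secT f σ hσ T) c / pull (PicF.secT f σ hσ T) c') = 1 := hn i
    rw [h3, map_one]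
  rwa [map_div, div_eq_one] at h2

/-- A universal rigidified class represents the fppf sheafified Picard functor. -/
theorem isRelPicK : AbDual.IsRelPicK Scheme.fppfPrecoverage f P (phi h) where
  natural T T' g c hc := by
    obtain ⟨c, rfl⟩ := exists_toCl hc
    rw [← toCl_pull, phi_natural]
  locallySurjective T g := by
    refine ⟨_, (single (𝟙 T) (hf := inferInstanceAs (Flat (𝟙 T.left)))
      (hl := inferInstanceAs (LocallyOfFinitePresentation (𝟙 T.left)))
      (hs := inferInstanceAs (Surjective (𝟙 T.left)))).mem_fppf, fun U u _ => ?_⟩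
    exact ⟨_, isInvertibleCl_toCl (pull (PicF.XTmap f (AbDual.ovrHom T u ≫ g)) ξ), phi_pull h _ _⟩
  locallyInjective T c c' hc hc' e := by
    obtain ⟨c, rfl⟩ := exists_toCl hc
    obtain ⟨c', rfl⟩ := exists_toCl hc'
    have e' : norm f σ hσ T c = norm f σ hσ T c' := by rw [← pull_phi h, ← pull_phi h, e]
    obtain ⟨𝒰, hU⟩ := exists_cov_of_norm_eq e'
    refine ⟨_, 𝒰.mem_fppf, ?_⟩
    rintro _ _ ⟨i⟩
    have h1 := hU i
    let a : AbDual.ovr T (𝒰.j i).left ⟶ 𝒰.V i := Over.homMk (𝟙 _) (by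
      rw [Category.id_comp]
      exact (Over.w (𝒰.j i)).symm)
    have h2 : AbDual.ovrHom T (𝒰.j i).left = a ≫ 𝒰.j i := Over.OverMorphism.ext (Category.id_comp _).symm
    rw [h2, XTmap_comp, ← toCl_pull, ← toCl_pull, pull_comp, pull_comp, h1]

end relpic

section zero

/-- `(P₀, ξ₀)` is universal for rigidified classes in `Pic⁰`. -/
structure UnivZero (f : C ⟶ S) (σ : S ⟶ C) (hσ : σ ≫ f = 𝟙 S) (P₀ : Over S) (ξ₀ : Pic (PicF.XT f P₀)) : Prop where
  mem : ξ₀ ∈ Rg f σ hσ P₀
  zero : FibZero (PicF.XTproj f P₀) ξ₀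
  univ : ∀ (T : Over S) (c : Pic (PicF.XT f T)), c ∈ Rg f σ hσ T → FibZero (PicF.XTproj f T) c →
    ∃! g : T ⟶ P₀, pull (PicF.XTmap f g) ξ₀ = c

variable {f : C ⟶ S} {σ : S ⟶ C} {hσ : σ ≫ f = 𝟙 S} {P₀ : Over S} {ξ₀ : Pic (PicF.XT f P₀)}
  (h : UnivZero f σ hσ P₀ ξ₀)

include h in
theorem UnivZero.hom_ext {T : Over S} {a b : T ⟶ P₀} (hab : pull (PicF.XTmap f a) ξ₀ = pull (PicF.XTmap f b) ξ₀) :
    a = b :=
  (h.univ T _ (pull_mem b h.mem) (h.zero.pull _ _ (XTmap_XTproj f b))).unique hab rfl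

theorem fibZero_norm {T : Over S} {c : Pic (PicF.XT f T)} (hc : FibZero (PicF.XTproj f T) c) :
    FibZero (PicF.XTproj f T) (norm f σ hσ T c) := by
  rw [norm_apply, div_eq_mul_inv]
  exact FibZero.mul hc (FibZero.inv (K247.GrpZero.fibZero_pull_base _ _))

open Classical in
/-- The morphism attached to a class of modules by a universal class in `Pic⁰`. -/
noncomputable def phi₀ (T : Over S) (c : PicF.Cl (PicF.XT f T)) : T ⟶ P₀ :=
  if hc : ∃ d : Pic (PicF.XT f T), toCl d = c ∧ FibZero (PicF.XTproj f T) d then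
    (h.univ T (norm f σ hσ T hc.choose) (norm_mem _ _ _ _ _) (fibZero_norm hc.choose_spec.2)).choose
  else (h.univ T 1 (one_mem _) (FibZero.one _)).choose

theorem pull_phi₀ (T : Over S) (c : Pic (PicF.XT f T)) (hc : FibZero (PicF.XTproj f T) c) :
    pull (PicF.XTmap f (phi₀ h T (toCl c))) ξ₀ = norm f σ hσ T c := by
  have h1 : ∃ d : Pic (PicF.XT f T), toCl d = toCl c ∧ FibZero (PicF.XTproj f T) d := ⟨c, rfl, hc⟩
  rw [phi₀, dif_pos h1]
  have h2 : h1.choose = c := toCl_injective h1.choose_spec.1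
  rw [(h.univ T (norm f σ hσ T h1.choose) (norm_mem _ _ _ _ _) (fibZero_norm h1.choose_spec.2)).choose_spec.1, h2]

theorem phi₀_natural {T T' : Over S} (g : T' ⟶ T) (c : Pic (PicF.XT f T)) (hc : FibZero (PicF.XTproj f T) c) :
    phi₀ h T' (toCl (pull (PicF.XTmap f g) c)) = g ≫ phi₀ h T (toCl c) := by
  apply h.hom_ext
  rw [XTmap_comp, pull_comp, pull_phi₀ h T c hc, pull_phi₀ h T' _ (hc.pull _ _ (XTmap_XTproj f g)), pull_norm]

theorem phi₀_pull (T : Over S) (g : T ⟶ P₀) : phi₀ h T (toCl (pull (PicF.XTmap f g) ξ₀)) = g := by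
  apply h.hom_ext
  rw [pull_phi₀ h _ _ (h.zero.pull _ _ (XTmap_XTproj f g)), norm_of_mem _ _ _ (pull_mem g h.mem)]

/-- A universal rigidified class in `Pic⁰` represents the fppf sheafified functor. -/
theorem isRelPicZeroK : AbDual.IsRelPicZeroK Scheme.fppfPrecoverage f P₀ (phi₀ h) where
  natural T T' g c hc := by
    obtain ⟨c, rfl⟩ := exists_toCl_of_isPicZeroCl f hc
    rw [isPicZeroCl_toCl_iff] at hc
    rw [← toCl_pull, phi₀_natural h g c hc]
  locallySurjective T g := by
    refine ⟨_, (single (𝟙 T) (hf := inferInstanceAs (Flat (𝟙 T.left)))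
      (hl := inferInstanceAs (LocallyOfFinitePresentation (𝟙 T.left)))
      (hs := inferInstanceAs (Surjective (𝟙 T.left)))).mem_fppf, fun U u _ => ?_⟩
    exact ⟨toCl (pull (PicF.XTmap f (AbDual.ovrHom T u ≫ g)) ξ₀),
      (isPicZeroCl_toCl_iff f _ _).2 (h.zero.pull _ _ (XTmap_XTproj f _)), phi₀_pull h _ _⟩
  locallyInjective T c c' hc hc' e := by
    obtain ⟨c, rfl⟩ := exists_toCl_of_isPicZeroCl f hc
    obtain ⟨c', rfl⟩ := exists_toCl_of_isPicZeroCl f hc'
    rw [isPicZeroCl_toCl_iff] at hc hc'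
    have e' : norm f σ hσ T c = norm f σ hσ T c' := by rw [← pull_phi₀ h T c hc, ← pull_phi₀ h T c' hc', e]
    obtain ⟨𝒰, hU⟩ := exists_cov_of_norm_eq e'
    refine ⟨_, 𝒰.mem_fppf, ?_⟩
    rintro _ _ ⟨i⟩
    have h1 := hU i
    let a : AbDual.ovr T (𝒰.j i).left ⟶ 𝒰.V i := Over.homMk (𝟙 _) (by
      rw [Category.id_comp]
      exact (Over.w (𝒰.j i)).symm)
    have h2 : AbDual.ovrHom T (𝒰.j i).left = a ≫ 𝒰.j i := Over.OverMorphism.ext (Category.id_comp _).symm
    rw [h2, XTmap_comp, ← toCl_pull, ← toCl_pull, pull_comp, pull_comp, h1]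

end zero

section zeroExist

variable {f : C ⟶ S} {σ : S ⟶ C} {hσ : σ ≫ f = 𝟙 S} {P : Over S} {ξ : Pic (PicF.XT f P)}

/-- The open and closed locus of degree zero. -/
noncomputable def zeroOpen [IsProper f] [Flat f] [LocallyOfFinitePresentation f]
    (hdim : ∀ s : S, topologicalKrullDim ↥(f.fiber s) = 1) (ξ : Pic (PicF.XT f P)) : P.left.Opens :=
  ⟨{p | degAt f P p ξ = 0}, (isLocallyConstant_degAt f hdim P ξ).isOpen_fiber 0⟩

/-- The subscheme of degree zero, with its universal class. -/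
theorem exists_univZero [IsProper f] [Smooth f] [GeometricallyConnected f]
    (hdim : ∀ s : S, topologicalKrullDim ↥(f.fiber s) = 1) (h : IsUniv f σ hσ P ξ) :
    ∃ (P₀ : Over S) (j : P₀ ⟶ P) (_ : IsOpenImmersion j.left),
      UnivZero f σ hσ P₀ (pull (PicF.XTmap f j) ξ) := by
  let P₀ : Over S := Over.mk ((zeroOpen hdim ξ).ι ≫ P.hom)
  let j : P₀ ⟶ P := Over.homMk (zeroOpen hdim ξ).ι rfl
  have hj : IsOpenImmersion j.left := inferInstanceAs (IsOpenImmersion (zeroOpen hdim ξ).ι)
  have hm : Mono j := by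
    have : Mono j.left := inferInstance
    exact Over.mono_of_mono_left j
  refine ⟨P₀, j, hj, ⟨pull_mem j h.1, ?_, ?_⟩⟩
  · rw [K247.FibDeg.fibZero_iff f hdim]
    intro t
    rw [degAt_pull]
    exact t.2
  · intro T c hc hc0
    rw [K247.FibDeg.fibZero_iff f hdim] at hc0
    obtain ⟨g, hg, hu⟩ := h.2 T c hc
    have hg' : pull (PicF.XTmap f g) ξ = c := hg
    have hr : Set.range g.left ⊆ Set.range (zeroOpen hdim ξ).ι := by
      rw [Scheme.Opens.range_ι]
      rintro _ ⟨t, rfl⟩
      change degAt f P (g.left t) ξ = 0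
      rw [← degAt_pull, hg', hc0]
    let g₀ : T ⟶ P₀ := Over.homMk (IsOpenImmersion.lift (zeroOpen hdim ξ).ι g.left hr) (by
      change IsOpenImmersion.lift (zeroOpen hdim ξ).ι g.left hr ≫ (zeroOpen hdim ξ).ι ≫ P.hom = T.hom
      rw [IsOpenImmersion.lift_fac_assoc, Over.w])
    have hgj : g₀ ≫ j = g := Over.OverMorphism.ext (IsOpenImmersion.lift_fac _ _ _)
    refine ⟨g₀, ?_, ?_⟩
    · change pull (PicF.XTmap f g₀) (pull (PicF.XTmap f j) ξ) = c
      rw [← pull_comp, ← XTmap_comp, hgj, hg']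
    · intro k hk
      have hk' : pull (PicF.XTmap f k) (pull (PicF.XTmap f j) ξ) = c := hk
      rw [← pull_comp, ← XTmap_comp] at hk'
      rw [← cancel_mono j, hgj]
      exact hu _ hk'

end zeroExist

end K245.RepSec
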